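import Cfsg.Agent.E8A.Asm.Main
import Cfsg.Agent.E8A.Two.Pair
import Cfsg.Agent.E8A.Par.Ext
import Cfsg.Agent.R2.T1.Odd.Typ

/-!
# S5772 in odd characteristic, degree at least 8: the boxes (helper41)

See `notes/E8A/odd.md`.

* `Rz z e f` : `e`, `f` are opposite long root vectors and `z` is the involution of their `SL₂`;
* `Ell g v` : `ad v = g - g⁻¹` on a subspace of codimension at most 8;
* `So3 a x t` : the 3-cycle `x` is the rotation of order 3 in an `SO₃`;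
* the boxes `NUM`, `THA`, `PT2`, `PT3`; `h3_of`, `h5_of`, `no14_of`.
-/

set_option autoImplicit false

namespace Cfsg.Agent.E8A.Odd

open Cfsg Cfsg.Lie Module
open Cfsg.Agent.H952.F4 (MaxAlt ev)
open Cfsg.Agent.H288.E8L (Q8)
open Cfsg.Agent.E8A.Reg5.Cls (dz)
open Cfsg.Agent.E8A.Par (op)
open Cfsg.Agent.R2.T1.Odd (P Tg inv lt ls l3 gQs vl)

universe u

section

variable {K : Type u} [Field K]

/-- the coroot of a root, as a coweight -/
def cv (r : Fin chevE8.nroots) : Q8 := fun k => chevE8.cartan k r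

/-- `e`, `f` are opposite long root vectors, `z` is the involution of their `SL₂` -/
def Rz (z : G8 K) (e f : L8 K) : Prop := ∃ (g : G8 K) (r : Fin chevE8.nroots),
  e = act g (ee K (Sum.inr r)) ∧ f = act g (ee K (Sum.inr (op r))) ∧ mx z * mx g = mx g * dz (-1) (cv r)

/-- `ad v = g - g⁻¹` on a subspace of codimension at most 8 -/
def Ell (g : G8 K) (v : L8 K) : Prop := 240 ≤ ev (Matrix.toLin' (adm v - mx g + mx g⁻¹)) 0

/-- `a = (0 1)(2 3)`, `x = (0 1 2)`, `t = (4 5)(6 7)` -/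
def So3 (a x t : G8 K) : Prop := ∃ (A : L8 K) (g : G8 K),
  Ell x (A + act x A + act x (act x A)) ∧
  act a A = A ∧ act a (act x A) = -act x A ∧ act a (act x (act x A)) = -act x (act x A) ∧
  br A (act x A) = act x (act x A) ∧
  g * g = a ∧ (∀ v, act a v = -v → act g v = br A v) ∧
  (∀ v, act a v = v → act g v = v + (2⁻¹ : K) • br A (br A v)) ∧
  ∀ v, act a v = v → act t v = -v → br A v = 0

variable {n : ℕ} [NeZero n]

/-- the classes of the involutions, the fixed space of the extraspecial group of order 32 -/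
def Num (ψ : Alt n →* G8 K) : Prop := ev (LK K (ψ (P n ls))) 1 = 120 ∧
  (ev (LK K (ψ (P n lt))) 1 = 120 ∨
    (ev (LK K (ψ (P n lt))) 1 = 136 ∧ finrank K ↥(inv (Inf.rp ψ) (Tg n gQs)) = 9))

/-- the group `A₈` centralizes a long root `SL₂` -/
def ThA (ψ : Alt n →* G8 K) : Prop := ev (LK K (ψ (P n lt))) 1 = 136 ∧
  ∃ z e f, Rz z e f ∧ ∀ l, vl 8 l = true → act (ψ (P n l)) e = e ∧ act (ψ (P n l)) f = f

end

/-- **NUM** -/
def NUM : Prop := ∀ (F : Type u) [Field F] [Finite F], (2 : F) ≠ 0 → ∀ (n : ℕ) [NeZero n], 8 ≤ n →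
  ∀ φ : Alt n →* G8 F, Function.Injective φ → Num φ

/-- **THA** (the hypothesis is needed for the conjugates of `ψ` under `S_n` too) -/
def THA : Prop := ∀ (p : ℕ) [Fact p.Prime], p ≠ 2 → ∀ (n : ℕ) [NeZero n], 8 ≤ n →
  ∀ ψ : Alt n →* G8 (Kb (ZMod p)), Function.Injective ψ →
  (∀ σ : MulAut (Alt n), Num (ψ.comp σ.toMonoidHom)) → ThA ψ

/-- **PT2** -/
def PT2 : Prop := ∀ (p : ℕ) [Fact p.Prime], p ≠ 2 → ∀ (n : ℕ) [NeZero n], 9 ≤ n →
  ∀ ψ : Alt n →* G8 (Kb (ZMod p)), Function.Injective ψ → ev (LK _ (ψ (P n ls))) 1 = 120 → ThA ψ →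
  So3 (ψ (P n lt)) (ψ (P n l3)) (ψ (P n [(4, 5), (6, 7)]))

/-- **PT3** -/
def PT3 : Prop := ∀ (F : Type u) [Field F] [Finite F], (2 : F) ≠ 0 → ∀ (n : ℕ) [NeZero n], 9 ≤ n → n ≤ 18 →
  ∀ (H : Subgroup (G8 F)) (φ : Alt n →* G8 F), MaxAlt H n φ →
  (∀ σ : MulAut (Alt n), So3 (emb0 (φ (σ (P n lt)))) (emb0 (φ (σ (P n l3)))) (emb0 (φ (σ (P n [(4, 5), (6, 7)]))))) →
  False

end Cfsg.Agent.E8A.Odd
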