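import Cfsg.Agent.E8A.Odd.Pt2Cy
import Cfsg.Agent.E8A.Two.El

/-!
# Box PT2 (helper41)

* `core` : the proof in the standard frame; `pt2 : PT2`.
-/

set_option autoImplicit false
set_option maxRecDepth 100000
set_option linter.unusedSectionVars false

namespace Cfsg.Agent.E8A.Odd

open Cfsg Cfsg.Lie Module
open Cfsg.Agent.Nodes.RGDChev
open Cfsg.Agent.H288.E8L (Q8 wt wt_inl wt_inr)
open Cfsg.Agent.H952.F4 (ev)
open Cfsg.Agent.E8A.Frm (B0)
open Cfsg.Agent.E8A.Inf (kf kf_comm kf_act kf_act' kf_nd)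
open Cfsg.Agent.E8A.Par (op vec_op kf_ee ext_act)
open Cfsg.Agent.E8A.Reg5.Cls (ex dz)
open Cfsg.Agent.E8A.Two
open Cfsg.Agent.E8A.TwoH
open Cfsg.Agent.E8A.Two.Mk (SW eqP P_eqP P_cj P_mul)
open Cfsg.Agent.R2.T1.Odd (P lt ls l3 vl cd P_eq_iff P_nil P_append)

universe u

theorem So3.conj {K : Type u} [Field K] {a x t : G8 K} (h : So3 a x t) (g : G8 K) :
    So3 (g * a * g⁻¹) (g * x * g⁻¹) (g * t * g⁻¹) := by
  obtain ⟨A, n, h1, h2, h3, h4, h5, h6, h7, h8, h9⟩ := h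
  have e : ∀ y v, act (g * y * g⁻¹) (act g v) = act g (act y v) := fun y v => by rw [act_mul, act_mul, act_inv]
  have e' : ∀ {y v w}, act (g * y * g⁻¹) (act g v) = act g w → act y v = w := fun h => act_injective g (by rw [← e, h])
  refine ⟨act g A, g * n * g⁻¹, ?_, by rw [e, h2], by rw [e, e, h3, act_neg], by rw [e, e, e, h4, act_neg],
    by rw [e, e, ← act_br, h5], by rw [← pow_two, conj_pow, pow_two, h6], fun v hv => ?_, fun v hv => ?_,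
    fun v hv hv' => ?_⟩
  · rw [e, e, ← act_add, ← act_add]
    exact Pt3.Ell_conj h1 g
  · rw [← act_inv' g v] at hv ⊢
    rw [e, h7 _ (e' (by rw [hv, act_neg])), act_br]
  · rw [← act_inv' g v] at hv ⊢
    rw [e, h8 _ (e' hv), act_add, act_smul, act_br, act_br]
  · rw [← act_inv' g v] at hv hv' ⊢
    rw [← act_br, h9 _ (e' hv) (e' (by rw [hv', act_neg])), act_zero]

section

variable {G : Type*} [Group G] {j c g h s t u y : G} (hj : j * j = 1)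
include hj

theorem inv_swap (h : j * s = t * j) : j * t = s * j := by
  rw [← mul_one (j * t), ← hj, ← mul_assoc, mul_assoc j t, ← h, ← mul_assoc, hj, one_mul]

theorem inv_comm (e : Commute g h) : Commute (j * g * j) (j * h * j) := by
  have := e.map (MulAut.conj j)
  rwa [MulAut.conj_apply, MulAut.conj_apply, inv_eq_of_mul_eq_one_left hj] at this

theorem inv_cj (g : G) : j * (j * g * j) * j = g := by
  rw [← mul_assoc, ← mul_assoc, hj, one_mul, mul_assoc, hj, mul_one]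

theorem inv_cube (jc : j * c = c * j) (y3 : y ^ 3 = 1) (cy : c * y * c⁻¹ = y⁻¹) :
    (j * y * j) ^ 3 = 1 ∧ c * (j * y * j) * c⁻¹ = (j * y * j)⁻¹ := by
  have ji := inv_eq_of_mul_eq_one_left hj
  refine ⟨?_, ?_⟩
  · nth_rewrite 2 [← ji]
    rw [conj_pow, y3, mul_one, mul_inv_cancel]
  · nth_rewrite 2 [← ji]
    rw [show c * (j * y * j⁻¹) * c⁻¹ = c * j * y * (c * j)⁻¹ by group, ← jc,
      show j * c * y * (j * c)⁻¹ = j * (c * y * c⁻¹) * j⁻¹ by group, cy, mul_inv_rev, mul_inv_rev, ji, mul_assoc]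

theorem inv_fin (hy : j * y * j = y ∨ j * y * j = y⁻¹) (uy : Commute u y) (hu : c = (u * (j * u * j)) ^ 3)
    (y3 : y ^ 3 = 1) (cy : c * y * c⁻¹ = y⁻¹) : y = 1 := by
  have uy' : Commute (j * u * j) y := by
    have h1 := inv_comm hj uy
    rcases hy with e | e
    · rwa [e] at h1
    · rw [e] at h1
      exact Commute.inv_right_iff.1 h1
  have h1 : Commute c y := hu ▸ (uy.mul_left uy').pow_left 3
  rw [h1.eq, mul_inv_cancel_right] at cy
  rw [← y3, pow_three, ← mul_assoc]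
  nth_rewrite 2 [cy]
  rw [inv_mul_cancel, one_mul]

end

section

variable {p : ℕ} [Fact p.Prime] (hp : p ≠ 2)
include hp

local notation "K₀" => Kb (ZMod p)
local notation "E[" r "]" => ee (Kb (ZMod p)) (Sum.inr r)
local notation "H[" r "]" => hq (Kb (ZMod p)) (vec chevE8 8 r)

theorem core {a1 a2 b1 b2 z x c j u : G8 K₀} {α β α' β' δ : Ix} (F : Fr a1 a2 b1 b2 z α β α' β' δ) (hx : x ^ 3 = 1)
    (x1 : x * a1 = a2 * x) (x2 : x * a2 = a1 * a2 * x) (xb : ∀ t ∈ [b1, b2, z], Fs x t) (hc : c * c = 1)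
    (c1 : c * a1 = a1 * c) (c2 : c * a2 = a1 * a2 * c) (c3 : c * b1 = b1 * c) (c4 : c * b2 = b1 * b2 * c)
    (cx : c * x * c⁻¹ = x⁻¹) (cz : Fs c z) (hj : j * j = 1) (j1 : j * a1 = b1 * j) (j2 : j * a2 = b2 * j) (jz : Fs j z)
    (jc : j * c = c * j) (jx : j * x * j * x = x * (j * x * j)) (ux : u * x = x * u) (ua : Fs u a1) (ba : Fs b1 a1)
    (hu : c = (u * (j * u * j)) ^ 3) : So3 a1 x b1 := by
  have h2 := two_K hp
  obtain ⟨γ, hγ⟩ := exists_add F.ab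
  obtain ⟨γ', hγ'⟩ := exists_add F.ab''
  have a3 := dz_mul F.a1 F.a2 hγ
  have b3 := dz_mul F.b1 F.b2 hγ'
  have i1 : ∀ {a b g : Ix}, ip a b = -1 → vec chevE8 8 g = vec chevE8 8 a + vec chevE8 8 b → ip a g = 1 :=
    fun {a b g} h e => by rw [ip_add a e, ip_self, h]; rfl
  obtain ⟨ν, r, s, Φ⟩ := exists_phi F.ab F.aa' F.ba' F.ab' F.bb' F.ab'' F.ad F.bd F.ad' F.bd'
  obtain ⟨t, -, k1⟩ := line_h hp F.a1 F.a1 F.a2 a3 (Or.inl (ip_comm _ _ ▸ i1 F.ab hγ)) c1 c2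
  obtain ⟨η, hη, k2⟩ := line_h hp F.a2 a3 F.a1 F.a1 (Or.inl (i1 F.ab hγ)) c2 c1
  obtain ⟨t', -, k3⟩ := line_h hp F.b1 F.b1 F.b2 b3 (Or.inl (ip_comm _ _ ▸ i1 F.ab'' hγ')) c3 c4
  obtain ⟨η', -, k4⟩ := line_h hp F.b2 b3 F.b1 F.b1 (Or.inl (i1 F.ab'' hγ')) c4 c3
  obtain ⟨m, hm, k5⟩ := line_h hp F.a1 F.b1 F.a2 F.b2 (Or.inr (ip_comm _ _ ▸ F.ab'')) j1 j2
  obtain ⟨μ, hμ, k6⟩ := line_h hp F.a2 F.b2 F.a1 F.b1 (Or.inr F.ab'') j2 j1
  rw [hγ, hq_add] at k2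
  rw [hγ', hq_add] at k4
  have Rz := rz_std F.z
  obtain ⟨rfl, rfl, rfl⟩ := Φ.signs h2 F.ab F.ab'' ⟨F.ad, F.bd, F.ad', F.bd'⟩ hc hj jc (cz.2 _ _ Rz).1 (cz.2 _ _ Rz).2
    (jz.2 _ _ Rz).1 (jz.2 _ _ Rz).2 hη hm hμ k1 k2 k3 k4 k5 k6
  rw [one_smul] at k2 k4
  have ch : act c H[α] = -H[α] := by
    have h1 := act_two hc H[β]
    rw [k2, act_add, k2] at h1
    linear_combination (norm := module) h1
  obtain ⟨l, n, e, f, hl, he, hf, cA, C⟩ := exists_cy hp F.a1 F.a2 F.ab hγ hx x1 x2 hc c1 cx ch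
  have xx : x⁻¹ = x * x := inv_eq_of_mul_eq_one_left (by rw [← pow_three', hx])
  obtain ⟨w, hw⟩ : ∃ w, w = n * (x * n * x⁻¹) := ⟨_, rfl⟩
  have xw : Commute x w := by
    rw [Commute, SemiconjBy, ← mul_inv_eq_iff_eq_mul]
    nth_rewrite 2 [hw]
    rw [← C.nn' h2, hw]
    group
  have cw : c * w * c⁻¹ = w⁻¹ := hw ▸ C.inv h2 c1 c2 cA (by
    rw [← act_sub, ← act_sub, ← act_sub, ← act_mul, mul_inv_eq_iff_eq_mul.1 cx, act_mul, cA, act_neg, xx, act_mul])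
  obtain ⟨y, hy⟩ : ∃ y, y = w⁻¹ * x := ⟨_, rfl⟩
  have cm : ∀ {g : G8 K₀}, g * x = x * g → Fs g a1 → Commute g y := fun {g} e1 e2 => by
    have h1 : Commute g n := C.r1.nn_comm h2 C.g1 e2.1 (by rw [act_sub, (e2.2 _ _ C.r1).1, (e2.2 _ _ C.r1).2])
    have h3 : Commute g x := e1
    rw [hy, hw]
    exact (h1.mul_right ((h3.mul_right h1).mul_right h3.inv_right)).inv_right.mul_right h3
  have xy : Commute x y := hy ▸ xw.inv_right.mul_right (Commute.refl x)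
  have y3 : y ^ 3 = 1 := by rw [hy, xw.symm.inv_left.mul_pow, inv_pow, hw, C.cube h2, hx, inv_one, one_mul]
  have cy : c * y * c⁻¹ = y⁻¹ := by
    rw [hy, show c * (w⁻¹ * x) * c⁻¹ = (c * w * c⁻¹)⁻¹ * (c * x * c⁻¹) by group, cw, cx, mul_inv_rev, inv_inv,
      xw.inv_left.eq]
  have ya : y * a1 = a1 * y := by
    rw [hy, mul_assoc, x1, ← mul_assoc, ← mul_assoc, mul_left_inj, inv_mul_eq_iff_eq_mul, ← mul_assoc, hw, C.xa h2,
      mul_inv_cancel_right]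
  have ya2 : y * a2 = a2 * y := by
    rw [← mul_inv_eq_iff_eq_mul.2 x1]
    exact ((xy.symm.mul_right ya).mul_right xy.symm.inv_right).eq
  have f1 : Fs y a1 := by
    obtain ⟨ε, hε, k⟩ := line_h hp F.a1 F.a1 F.a2 F.a2 (Or.inr (ip_comm _ _ ▸ F.ab)) ya ya2
    have h1 : act y (act y (act y H[α])) = H[α] := by rw [← act_mul, ← act_mul, ← pow_three', y3, act_one]
    rw [k, act_smul, k, smul_smul, hε, one_smul] at h1
    have h3 : br e f = H[α] := by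
      rw [he, hf, br_smul_left, br_smul_right, smul_smul, mul_inv_cancel₀ hl, one_smul, br_ee_op]
    have h4 : act y (e - f) = e - f := by rw [hy, act_mul, act_sub x, ← C.xA h2, ← hw, act_inv]
    have h5 := act_br y (br e f) (e - f)
    rw [h4, h3, h1, ← h3, br_sub_right, C.r1.he h2, C.r1.hf h2, act_sub, act_smul, act_smul] at h5
    rw [act_sub] at h4
    exact fs_of_fix hp C.r1 (half h2 (half h2 (by linear_combination (norm := module) h5 + (2 : K₀) • h4)))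
      (half h2 (half h2 (by linear_combination (norm := module) h5 - (2 : K₀) • h4)))
  have f2 : ∀ {t : G8 K₀} {ρ : Ix}, mx t = dz (-1) (cv ρ) → ip α ρ = 0 → Fs x t → Fs y t := fun {t ρ} ht e1 e2 => by
    have h1 : ∀ {σ : Ix}, ip α σ = 0 → act n E[σ] = E[σ] := fun {σ} e3 => C.g1.fix (fix_E F.a1 e3).1 (by
      rw [he, hf, br_sub_left, br_smul_left, br_smul_left, br_ee_zero (by rw [← ip, e3]),
        br_ee_zero (by rw [← ip, op_ip, e3, neg_zero]), smul_zero, smul_zero, sub_zero])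
    have h3 : Fs n t := fs_of_fix hp (rz_std ht) (h1 e1) (h1 (by rw [ip_op, e1, neg_zero]))
    rw [hy, hw]
    exact (h3.mul ((e2.mul h3).mul e2.inv)).inv.mul e2
  have f3 : Fs y a2 := f1.conj' xy.eq x1
  have f4 := f2 F.b1 F.aa' (xb _ (by simp))
  have f5 := f2 F.b2 F.ab' (xb _ (by simp))
  have f6 := f2 F.z F.ad (xb _ (by simp))
  have jy : j * y = j * y * j * j := by rw [mul_assoc _ j, hj, mul_one]
  have gd : ∀ {g : G8 K₀}, g ^ 3 = 1 → c * g * c⁻¹ = g⁻¹ → Fs g a1 → Fs g a2 → Fs g b1 → Fs g b2 → Fs g z →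
      Gd α β α' β' δ c g := fun e1 e2 g1 g2 g3 g4 g5 => ⟨e1, e2, by
    simp only [List.mem_cons, List.not_mem_nil, or_false, forall_eq_or_imp, forall_eq]
    exact ⟨g1.2 _ _ (rz_std F.a1), g2.2 _ _ (rz_std F.a2), g3.2 _ _ (rz_std F.b1), g4.2 _ _ (rz_std F.b2), g5.2 _ _ Rz⟩⟩
  have hyy : Commute (j * y * j) y := by
    have h1 := inv_comm hj (cm jx ((xb b1 (by simp)).conj' (by rw [mul_assoc _ j, hj, mul_one]) (inv_swap hj j1)))
    rw [inv_cj hj] at h1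
    exact cm h1.symm.eq (f4.conj' jy (inv_swap hj j1))
  have y1 := inv_fin hj (Φ.yy h2 F.ab F.ab'' hc hj jc (fix_H (cz.2 _ _ Rz).1 (cz.2 _ _ Rz).2) hm k1 k2 k3 k4 k5 k6
    (gd y3 cy f1 f3 f4 f5 f6) (gd (inv_cube hj jc y3 cy).1 (inv_cube hj jc y3 cy).2 (f4.conj' jy (inv_swap hj j1))
      (f5.conj' jy (inv_swap hj j2)) (f1.conj' jy j1) (f3.conj' jy j2) (f6.conj' jy jz.1)) hyy.symm.eq) (cm ux ua) hu y3 cy
  have xw' : x = n * (x * n * x⁻¹) := (inv_mul_eq_one.1 (hy.symm.trans y1)).symm.trans hw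
  have hW : ∀ {t : G8 K₀} {ρ : Ix} {e f : L8 K₀} {W : Submodule K₀ (L8 K₀)}, mx t = dz (-1) (cv ρ) → Odd.Rz t e f →
      E[ρ] ∈ W → E[op ρ] ∈ W → H[ρ] ∈ W → Sz e f ≤ W := fun {t ρ e f W} ht R w1 w2 w3 v hv => by
    rw [(rz_std ht).Sz_unique hp R] at hv
    obtain ⟨a, b, d, rfl⟩ := mem_Sz.1 hv
    rw [br_ee_op]
    exact W.add_mem (W.add_mem (W.smul_mem _ w1) (W.smul_mem _ w2)) (W.smul_mem _ w3)
  have hm : ∀ k, ![E[α], E[op α], E[β], E[op β], E[γ], E[op γ], H[α], H[β]] k ∈ Submodule.span K₀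
      (Set.range ![E[α], E[op α], E[β], E[op β], E[γ], E[op γ], H[α], H[β]]) := fun k => Submodule.subset_span ⟨k, rfl⟩
  have el := C.ell h2 ((finrank_range_le_card _).trans (Fintype.card_fin 8).le) (hW F.a1 C.r1 (hm 0) (hm 1) (hm 6))
    (hW F.a2 C.r2 (hm 2) (hm 3) (hm 7)) (hW a3 C.r3 (hm 4) (hm 5) (by
      rw [hγ, hq_add]
      exact Submodule.add_mem _ (hm 6) (hm 7)))
  rw [← xw'] at el
  refine ⟨e - f, n, ?_, C.p11, ?_, ?_, ?_, C.r1.nn_sq h2 C.g1, C.g1.minus, C.g1.plus, fun v hv hv' => ?_⟩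
  · rwa [act_sub, act_sub]
  · rw [act_sub x]
    exact C.rot.p31
  · rw [act_sub x, act_sub x]
    exact C.rot.rot.p21
  · rw [act_sub x, act_sub x]
    exact C.b1
  · have h1 := fix_Sz (ba.2 _ _ C.r1).1 (ba.2 _ _ C.r1).2
      (C.r1.br_mem h2 (Submodule.sub_mem _ (e_mem e f) (f_mem e f)) hv)
    rw [act_br, hv', act_sub, (ba.2 _ _ C.r1).1, (ba.2 _ _ C.r1).2, br_neg_right] at h1
    exact eq_zero_of_neg h2 h1.symm

variable {n : ℕ} [NeZero n] (hn : 9 ≤ n) {ψ : Alt n →* G8 (Kb (ZMod p))}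
include hn

omit hp in
theorem eqψ {a b c d : SW} (h : eqP 9 a b c d = true) : ψ (P n a) * ψ (P n b) = ψ (P n c) * ψ (P n d) := by
  rw [← map_mul, P_eqP hn h, map_mul]

omit hp in
theorem mulψ {a b c : SW} (h : eqP 9 a b c [] = true) : ψ (P n a) * ψ (P n b) = ψ (P n c) := by
  rw [← map_mul, P_mul hn h]

omit hp in
theorem oneψ {a b : SW} (h : eqP 9 a b [] [] = true) : ψ (P n a) * ψ (P n b) = 1 := by rw [mulψ hn h, P_nil, map_one]

omit hp in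
theorem evψ {a r : SW} (c : SW) (h : eqP 9 a c c r = true) : ev (LK _ (ψ (P n a))) 1 = ev (LK _ (ψ (P n r))) 1 := by
  rw [← P_cj hn c h, map_mul ψ, map_mul ψ, map_inv ψ, Inf.ev_conj]

omit hp in
theorem neψ (hψ : Function.Injective ψ) {a b : SW} (h : (vl 9 a && vl 9 b && !(cd 9 a == cd 9 b)) = true) :
    ψ (P n a) ≠ ψ (P n b) := fun e => by
  simp only [Bool.and_eq_true, Bool.not_eq_true', beq_eq_false_iff_ne] at h
  exact h.2 ((P_eq_iff hn h.1.1 h.1.2).1 (hψ e))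

theorem fsψ (hs : ev (LK _ (ψ (P n ls))) 1 = 120) (ht : ev (LK _ (ψ (P n lt))) 1 = 136) {a b : SW} (c d : SW)
    (h : (eqP 9 a a [] [] && eqP 9 a b b a && eqP 9 a c c lt && eqP 9 a b (a ++ b) [] && eqP 9 (a ++ b) d d ls) = true) :
    Fs (ψ (P n a)) (ψ (P n b)) := by
  simp only [Bool.and_eq_true] at h
  exact fs_of hp (oneψ hn h.1.1.1.1) (eqψ hn h.1.1.1.2) (by rw [evψ hn c h.1.1.2, ht])
    (by rw [mulψ hn h.1.2, evψ hn d h.2, hs]; decide)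

theorem main (hs : ev (LK _ (ψ (P n ls))) 1 = 120) (ht : ev (LK _ (ψ (P n lt))) 1 = 136) {z : G8 K₀}
    (hz : ∀ l, vl 8 l = true → Fs (ψ (P n l)) z) {α β α' β' δ : Ix}
    (F : Fr (ψ (P n lt)) (ψ (P n [(0, 3), (1, 2)])) (ψ (P n [(4, 5), (6, 7)])) (ψ (P n [(4, 7), (5, 6)])) z α β α' β' δ) :
    So3 (ψ (P n lt)) (ψ (P n l3)) (ψ (P n [(4, 5), (6, 7)])) := by
  have hx := mulψ hn (ψ := ψ) (a := [(0, 1), (3, 8)]) (b := [(3, 8), (1, 2)]) (c := l3) (by decide)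
  have hv : ψ (P n [(0, 4), (1, 5), (2, 6), (3, 7)]) * ψ (P n [(4, 5), (6, 8)]) * ψ (P n [(0, 4), (1, 5), (2, 6), (3, 7)]) =
      ψ (P n [(0, 1), (2, 8)]) := by
    rw [eqψ hn (c := [(0, 1), (2, 8)]) (d := [(0, 4), (1, 5), (2, 6), (3, 7)]) (by decide), mul_assoc,
      oneψ hn (by decide), mul_one]
  have hw : ψ (P n [(0, 4), (1, 5), (2, 6), (3, 7)]) * ψ (P n l3) * ψ (P n [(0, 4), (1, 5), (2, 6), (3, 7)]) =
      ψ (P n [(4, 5), (5, 6)]) := by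
    rw [eqψ hn (c := [(4, 5), (5, 6)]) (d := [(0, 4), (1, 5), (2, 6), (3, 7)]) (by decide), mul_assoc,
      oneψ hn (by decide), mul_one]
  refine core hp F (c := ψ (P n [(0, 1), (4, 5)])) (j := ψ (P n [(0, 4), (1, 5), (2, 6), (3, 7)]))
    (u := ψ (P n [(4, 5), (6, 8)])) ?_ (eqψ hn (by decide)) ?_ ?_ (oneψ hn (by decide)) (eqψ hn (by decide)) ?_
    (eqψ hn (by decide)) ?_ ?_ (hz _ (by decide)) (oneψ hn (by decide)) (eqψ hn (by decide)) (eqψ hn (by decide))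
    (hz _ (by decide)) (eqψ hn (by decide)) ?_ (eqψ hn (by decide))
    (fsψ hp hn hs ht [(0, 4), (1, 5), (2, 6), (3, 8)] [(0, 1), (7, 8)] (by decide))
    (fsψ hp hn hs ht [(0, 4), (1, 5), (2, 6), (3, 7)] [] (by decide)) ?_
  · rw [pow_three', mulψ hn (c := [(1, 2), (0, 1)]) (by decide), oneψ hn (by decide)]
  · rw [mulψ hn (a := lt) (c := [(0, 2), (1, 3)]) (by decide)]
    exact eqψ hn (by decide)
  · simp only [List.mem_cons, List.not_mem_nil, or_false, forall_eq_or_imp, forall_eq]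
    refine ⟨hx ▸ Fs.mul ?_ ?_, hx ▸ Fs.mul ?_ ?_, hz _ (by decide)⟩
    · exact fsψ hp hn hs ht [(0, 1), (2, 8)] [(0, 1), (2, 8)] (by decide)
    · exact fsψ hp hn hs ht [(0, 2), (2, 8)] [(0, 2), (2, 8)] (by decide)
    · exact fsψ hp hn hs ht [(0, 1), (2, 8)] [(2, 8), (4, 6)] (by decide)
    · exact fsψ hp hn hs ht [(0, 2), (2, 8)] [(0, 1), (0, 3), (1, 8), (4, 6)] (by decide)
  · rw [mulψ hn (a := lt) (c := [(0, 2), (1, 3)]) (by decide)]
    exact eqψ hn (by decide)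
  · rw [mulψ hn (a := [(4, 5), (6, 7)]) (c := [(4, 6), (5, 7)]) (by decide)]
    exact eqψ hn (by decide)
  · rw [mul_inv_eq_iff_eq_mul, eq_inv_mul_iff_mul_eq, ← mul_assoc, mulψ hn (c := l3 ++ [(0, 1), (4, 5)]) (by decide)]
    exact mulψ hn (by decide)
  · rw [hw]
    exact eqψ hn (by decide)
  · rw [hv, mulψ hn (c := [(4, 5), (6, 8), (0, 1), (2, 8)]) (by decide), pow_three',
      mulψ hn (c := [(6, 8), (2, 8), (6, 8), (2, 8)]) (by decide), mulψ hn (c := [(0, 1), (4, 5)]) (by decide)]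

end

theorem pt2 : PT2 := by
  intro p _ hp n _ hn ψ hψ hs ⟨ht, z, e, f, R, hz⟩
  have h1 : ∀ l, vl 8 l = true → Fs (ψ (P n l)) z := fun l hl => fs_of_fix hp R (hz l hl).1 (hz l hl).2
  have h3 : ∀ a b : SW, vl 8 b = true → (eqP 9 a b (a ++ b) [] && eqP 9 b a (b ++ a) [] && (vl 9 (b ++ a) && vl 9 (a ++ b) &&
      !(cd 9 (b ++ a) == cd 9 (a ++ b)))) = true → ψ (P n a) ≠ z := fun a b hb h e => by
    simp only [Bool.and_eq_true (eqP 9 a b (a ++ b) [] && eqP 9 b a (b ++ a) []), Bool.and_eq_true (eqP 9 a b (a ++ b) [])] at h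
    have h4 := (h1 b hb).1
    rw [← e, mulψ hn h.1.1, mulψ hn h.1.2] at h4
    exact neψ hn hψ h.2 h4
  obtain ⟨g, α, β, α', β', δ, F⟩ := exists_fr hp (a1 := ψ (P n lt)) (a2 := ψ (P n [(0, 3), (1, 2)]))
    (b1 := ψ (P n [(4, 5), (6, 7)])) (b2 := ψ (P n [(4, 7), (5, 6)])) (z := z) (by
      simp only [List.mem_cons, List.not_mem_nil, or_false, forall_eq_or_imp, forall_eq]
      exact ⟨⟨oneψ hn (by decide), ht⟩, ⟨oneψ hn (by decide), (evψ hn [(0, 1), (0, 3)] (by decide)).trans ht⟩,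
        ⟨oneψ hn (by decide), (evψ hn [(0, 4), (1, 5), (2, 6), (3, 7)] (by decide)).trans ht⟩,
        ⟨oneψ hn (by decide), (evψ hn [(0, 4), (1, 7), (2, 5), (3, 6)] (by decide)).trans ht⟩, R.one,
        R.ev_eq (two_K hp)⟩) (eqψ hn (by decide)) (eqψ hn (by decide))
    (by rw [mulψ hn (c := [(0, 3), (1, 2)] ++ lt) (by decide), evψ hn [(0, 1), (0, 2)] (r := lt) (by decide), ht])
    (by rw [mulψ hn (c := [(4, 5), (6, 7), (4, 7), (5, 6)]) (by decide),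
      evψ hn [(0, 4), (1, 6), (2, 5), (3, 7)] (r := lt) (by decide), ht]) (by
      simp only [List.mem_cons, List.not_mem_nil, or_false, forall_eq_or_imp, forall_eq]
      exact ⟨⟨⟨fsψ hp hn hs ht [] [] (by decide), neψ hn hψ (by decide)⟩,
        fsψ hp hn hs ht [] [(0, 1), (4, 6)] (by decide), neψ hn hψ (by decide)⟩,
        ⟨fsψ hp hn hs ht [(0, 1), (0, 3)] [(0, 1), (0, 3)] (by decide), neψ hn hψ (by decide)⟩,
        fsψ hp hn hs ht [(0, 1), (0, 3)] [(0, 2), (4, 6)] (by decide), neψ hn hψ (by decide)⟩) (by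
      simp only [List.mem_cons, List.not_mem_nil, or_false, forall_eq_or_imp, forall_eq]
      exact ⟨⟨h1 _ (by decide), h3 _ l3 (by decide) (by decide)⟩, ⟨h1 _ (by decide), h3 _ l3 (by decide) (by decide)⟩,
        ⟨h1 _ (by decide), h3 _ [(4, 5), (5, 6)] (by decide) (by decide)⟩, h1 _ (by decide),
        h3 _ [(4, 5), (5, 6)] (by decide) (by decide)⟩)
  have h4 := (main hp hn (ψ := (MulAut.conj g).toMonoidHom.comp ψ) ((Inf.ev_conj g _ 1).trans hs)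
    ((Inf.ev_conj g _ 1).trans ht) (fun l hl => (h1 l hl).conj g) F).conj g⁻¹
  have h5 : ∀ l, g⁻¹ * ((MulAut.conj g).toMonoidHom.comp ψ) (P n l) * g⁻¹⁻¹ = ψ (P n l) := fun l => by
    show g⁻¹ * (g * ψ (P n l) * g⁻¹) * g⁻¹⁻¹ = _
    group
  rwa [h5, h5, h5] at h4

end Cfsg.Agent.E8A.Odd
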