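import Cfsg.Agent.E8A.Odd.Pt2Om

/-!
# Box PT2: the construction of the group `SO₃` (helper41)

* `line_h` : the action on the coroots; `exists_swap`, `exists_ef`, `exists_cy`.
-/

set_option autoImplicit false
set_option maxRecDepth 100000
set_option linter.unusedSectionVars false

namespace Cfsg.Agent.E8A.Odd

open Cfsg Cfsg.Lie Module
open Cfsg.Agent.Nodes.RGDChev
open Cfsg.Agent.H288.E8L (Q8 wt wt_inl wt_inr)
open Cfsg.Agent.E8A.Frm (B0)
open Cfsg.Agent.E8A.Inf (kf kf_comm kf_act kf_act' kf_nd)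
open Cfsg.Agent.E8A.Par (op vec_op kf_ee ext_act)
open Cfsg.Agent.E8A.Reg5.Cls (ex dz)
open Cfsg.Agent.E8A.Two
open Cfsg.Agent.E8A.TwoH

universe u

section

variable {K : Type u} [Field K]

local notation "E[" r "]" => ee K (Sum.inr r)
local notation "H[" r "]" => hq K (vec chevE8 8 r)

theorem hq_add (a b : Q8) : hq K (a + b) = hq K a + hq K b := funext fun i => by
  rcases i with i | r
  · show (((a + b) (ix i) : ℤ) : K) = ((a (ix i) : ℤ) : K) + ((b (ix i) : ℤ) : K)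
    rw [Pi.add_apply, Int.cast_add]
  · exact (add_zero _).symm

theorem neg_E {w : G8 K} {r s : Ix} (hw : mx w = dz (-1) (cv s)) (h : ip s r = 1 ∨ ip s r = -1) :
    act w E[r] = -E[r] ∧ act w E[op r] = -E[op r] := by
  rw [act_dz_ee hw, act_dz_ee hw, ip_op]
  rcases h with h | h <;> simp [h]

theorem fix_E {w : G8 K} {r s : Ix} (hw : mx w = dz (-1) (cv s)) (h : ip s r = 0) :
    act w E[r] = E[r] ∧ act w E[op r] = E[op r] := by
  rw [act_dz_ee hw, act_dz_ee hw, ip_op]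
  simp [h]

theorem dz_mul {a b : G8 K} {r s u : Ix} (ha : mx a = dz (-1) (cv r)) (hb : mx b = dz (-1) (cv s))
    (h : vec chevE8 8 u = vec chevE8 8 r + vec chevE8 8 s) : mx (a * b) = dz (-1) (cv u) := by
  rw [mx_mul, ha, hb, cv_add h, dz_add (neg_ne_zero.2 one_ne_zero)]

theorem Fs.inv {y z : G8 K} (h : Fs y z) : Fs y⁻¹ z :=
  ⟨(show Commute y z from h.1).inv_left.eq, fun e f R => ⟨inv_fix (h.2 e f R).1, inv_fix (h.2 e f R).2⟩⟩

theorem Fs.conj' {y z y' z' g : G8 K} (h : Fs y z) (h1 : g * y = y' * g) (h3 : g * z = z' * g) : Fs y' z' := by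
  have h4 := h.conj g
  rwa [h1, h3, mul_inv_cancel_right, mul_inv_cancel_right] at h4

variable (h2 : (2 : K) ≠ 0)
include h2

theorem Rz.of_fix {z w : G8 K} {e f v : L8 K} (h : Rz z e f) (hv : v ∈ Sz e f) (hw : act w e = -e ∧ act w f = -f)
    (h1 : act w v = v) : ∃ c : K, v = c • br e f := by
  obtain ⟨a, b, c, rfl⟩ := mem_Sz.1 hv
  rw [act_add, act_add, act_smul, act_smul, act_smul, act_br, hw.1, hw.2, br_neg_left, br_neg_right, neg_neg] at h1
  obtain ⟨ha, hb, -⟩ := h.indep h2 (a := 2 * a) (b := 2 * b) (c := 0) (by linear_combination (norm := module) -h1)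
  exact ⟨c, by rw [(mul_eq_zero.1 ha).resolve_left h2, (mul_eq_zero.1 hb).resolve_left h2, zero_smul, zero_smul, zero_add,
    zero_add]⟩

theorem Rz.of_neg {z w : G8 K} {e f v : L8 K} (h : Rz z e f) (hv : v ∈ Sz e f) (hw : act w e = -e ∧ act w f = -f)
    (h1 : act w v = -v) : ∃ a b : K, v = a • e + b • f := by
  obtain ⟨a, b, c, rfl⟩ := mem_Sz.1 hv
  rw [act_add, act_add, act_smul, act_smul, act_smul, act_br, hw.1, hw.2, br_neg_left, br_neg_right, neg_neg] at h1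
  obtain ⟨-, -, hc⟩ := h.indep h2 (a := 0) (b := 0) (c := 2 * c) (by linear_combination (norm := module) h1)
  exact ⟨a, b, by rw [(mul_eq_zero.1 hc).resolve_left h2, zero_smul, add_zero]⟩

theorem Rz.kf_AA {z : G8 K} {e f : L8 K} (h : Rz z e f) : kf K (e - f) (e - f) = -2 := by
  simp only [map_sub, LinearMap.sub_apply, h.ee0, h.ef, h.fe, h.ff0]
  norm_num

end

section

variable {p : ℕ} [Fact p.Prime] (hp : p ≠ 2)
include hp

local notation "K₀" => Kb (ZMod p)
local notation "E[" r "]" => ee (Kb (ZMod p)) (Sum.inr r)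
local notation "H[" r "]" => hq (Kb (ZMod p)) (vec chevE8 8 r)

theorem line_h {z z' w w' y : G8 K₀} {r r' s s' : Ix} (hz : mx z = dz (-1) (cv r)) (hz' : mx z' = dz (-1) (cv r'))
    (hw : mx w = dz (-1) (cv s)) (hw' : mx w' = dz (-1) (cv s')) (h : ip s' r' = 1 ∨ ip s' r' = -1)
    (h1 : y * z = z' * y) (h3 : y * w = w' * y) : ∃ ε : K₀, ε * ε = 1 ∧ act y H[r] = ε • H[r'] := by
  have h2 := two_K hp
  have h4 := (rz_std hz).act_mem hp (rz_std hz') h1 (h_mem _ _)
  rw [br_ee_op] at h4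
  obtain ⟨ε, hε⟩ := (rz_std hz').of_fix h2 h4 (neg_E hw' h) (by rw [← act_mul, ← h3, act_mul, act_dz_T hw (inT_hq _)])
  have h5 := kf_act y H[r] H[r]
  rw [hε, map_smul, map_smul, LinearMap.smul_apply, (rz_std hz').kf_hh h2, ← br_ee_op, (rz_std hz).kf_hh h2, smul_eq_mul,
    smul_eq_mul] at h5
  exact ⟨ε, mul_right_cancel₀ h2 (by linear_combination h5), by rw [hε, br_ee_op]⟩

theorem exists_swap {a c : G8 K₀} {α : Ix} (ha : mx a = dz (-1) (cv α)) (hc : c * c = 1) (h1 : c * a = a * c)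
    (h3 : act c H[α] = -H[α]) : ∃ l : K₀, l ≠ 0 ∧ act c (l • E[α]) = l⁻¹ • E[op α] := by
  have h2 := two_K hp
  have R := rz_std ha
  obtain ⟨s, k, t, h4⟩ := mem_Sz.1 (R.act_mem hp R h1 (e_mem _ _))
  have h5 := br_act' hc H[α] E[α]
  rw [h3, br_neg_left, ← br_ee_op, R.he h2, act_neg, act_smul, h4, br_add_right, br_add_right, br_smul_right, br_smul_right,
    br_smul_right, br_self, R.he h2, R.hf h2] at h5
  obtain ⟨hs, -, ht⟩ := R.indep h2 (a := 2 * (2 * s)) (b := 0) (c := 2 * t) (by linear_combination (norm := module) h5)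
  rw [(mul_eq_zero.1 ((mul_eq_zero.1 hs).resolve_left h2)).resolve_left h2, (mul_eq_zero.1 ht).resolve_left h2, zero_smul,
    zero_smul, zero_add, add_zero] at h4
  have hk : k ≠ 0 := fun e => ee_ne_zero _ (act_eq_zero (by rw [h4, e, zero_smul]))
  obtain ⟨l, hl⟩ := IsAlgClosed.exists_pow_nat_eq k⁻¹ (n := 2) two_pos
  have hl0 : l ≠ 0 := fun e => inv_ne_zero hk (by rw [← hl, e, zero_pow two_ne_zero])
  refine ⟨l, hl0, ?_⟩
  rw [act_smul, h4, smul_smul, eq_inv_of_mul_eq_one_left (show l * k * l = 1 by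
    rw [show l * k * l = l ^ 2 * k by ring, hl, inv_mul_cancel₀ hk])]

variable {a1 a2 x c : G8 (Kb (ZMod p))} {α β γ : Ix} (h1 : mx a1 = dz (-1) (cv α)) (h3 : mx a2 = dz (-1) (cv β))
  (hab : ip α β = -1) (hγ : vec chevE8 8 γ = vec chevE8 8 α + vec chevE8 8 β) (hx : x ^ 3 = 1) (x1 : x * a1 = a2 * x)
  (x2 : x * a2 = a1 * a2 * x) (hc : c * c = 1) (c1 : c * a1 = a1 * c) (cx : c * x * c⁻¹ = x⁻¹)
  (ch : act c (hq (Kb (ZMod p)) (vec chevE8 8 α)) = -hq (Kb (ZMod p)) (vec chevE8 8 α))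
include h1 h3 hab hγ hx x1 x2 hc c1 cx ch

theorem exists_ef : ∃ l : K₀, l ≠ 0 ∧ act c (l • E[α]) = l⁻¹ • E[op α] ∧
    br (act x (l • E[α] - l⁻¹ • E[op α])) (act x (act x (l • E[α] - l⁻¹ • E[op α]))) = l • E[α] - l⁻¹ • E[op α] := by
  have h2 := two_K hp
  obtain ⟨l, hl, h4⟩ := exists_swap hp h1 hc c1 ch
  have h5 : act c (l⁻¹ • E[op α]) = l • E[α] := by rw [← h4, act_two hc]
  have R := (rz_std h1).smul hl
  have h6 := dz_mul h1 h3 hγ
  have x3 : x * (a1 * a2) = a1 * x := by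
    rw [← mul_assoc, x1, mul_assoc, x2, ← mul_assoc, ← mul_assoc, ← dz_comm h1 h3, mul_assoc a1, (rz_std h3).one, mul_one]
  have i1 : ip α γ = 1 := by rw [ip_add α hγ, ip_self, hab]; rfl
  have i2 : ip β γ = 1 := by rw [ip_add β hγ, ip_self, ip_comm, hab]; rfl
  have n2 := neg_E h3 (r := α) (Or.inr (ip_comm _ _ ▸ hab))
  have n3 := neg_E h6 (r := α) (Or.inl (ip_comm _ _ ▸ i1))
  generalize hA : l • E[α] - l⁻¹ • E[op α] = A
  have hS : A ∈ Sz (l • E[α]) (l⁻¹ • E[op α]) := hA ▸ Submodule.sub_mem _ (e_mem _ _) (f_mem _ _)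
  have a2A : act a2 A = -A := by rw [← hA, act_sub, act_smul, act_smul, n2.1, n2.2]; module
  have a3A : act (a1 * a2) A = -A := by rw [← hA, act_sub, act_smul, act_smul, n3.1, n3.2]; module
  have cA : act c A = -A := by rw [← hA, act_sub, h4, h5, neg_sub]
  have e1 : act a1 (act x A) = -act x A := by rw [← act_mul, ← x3, act_mul, a3A, act_neg]
  have e2 : act (a1 * a2) (act x A) = -act x A := by rw [← act_mul, ← x2, act_mul, a2A, act_neg]
  have e3 : act a1 (act x (act x A)) = -act x (act x A) := by rw [← act_mul, ← x3, act_mul, e2, act_neg]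
  have e4 : act a2 (act x (act x A)) = -act x (act x A) := by rw [← act_mul, ← x1, act_mul, e1, act_neg]
  have m2 := R.act_mem hp (rz_std h3) x1 hS
  obtain ⟨s, t, hst⟩ := (rz_std h3).of_neg h2 m2 (neg_E h1 (Or.inr hab)) e1
  obtain ⟨s', t', hst'⟩ := (rz_std h6).of_neg h2 ((rz_std h3).act_mem hp (rz_std h6) x2 m2) (neg_E h1 (Or.inl i1)) e3
  have b1 : br E[β] E[γ] = 0 := br_ee_zero (by rw [← ip, i2]; decide)
  have b2 : br E[op β] E[op γ] = 0 := br_ee_zero (by rw [← ip, ip_op, op_ip, i2]; decide)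
  obtain ⟨N, b3⟩ : ∃ N : K₀, br E[β] E[op γ] = N • E[op α] := ⟨_, br_ee_smul (by rw [vec_op, vec_op, hγ]; abel)⟩
  obtain ⟨N', b4⟩ : ∃ N : K₀, br E[op β] E[γ] = N • E[α] := ⟨_, br_ee_smul (by rw [vec_op, hγ]; abel)⟩
  obtain ⟨m, m', hm⟩ : ∃ m m' : K₀, br (act x A) (act x (act x A)) = m • l • E[α] + m' • l⁻¹ • E[op α] := by
    rw [hst', hst, br_add_left, br_add_right, br_add_right, br_smul_left, br_smul_left, br_smul_left, br_smul_left,
      br_smul_right, br_smul_right, br_smul_right, br_smul_right, b1, b2, b3, b4]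
    refine ⟨t * s' * N' * l⁻¹, s * t' * N * l, ?_⟩
    rw [smul_smul _ l, smul_smul _ l⁻¹, inv_mul_cancel_right₀ hl, mul_inv_cancel_right₀ hl]
    module
  have xx : x⁻¹ = x * x := inv_eq_of_mul_eq_one_left (by rw [← pow_three', hx])
  have f1 : act c (act x A) = -act x (act x A) := by
    rw [← act_mul, mul_inv_eq_iff_eq_mul.1 cx, act_mul, cA, act_neg, xx, act_mul]
  have f2 : act c (act x (act x A)) = -act x A := by rw [← neg_neg (act x (act x A)), ← f1, act_neg, act_two hc]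
  have f3 := act_br c (act x A) (act x (act x A))
  rw [f1, f2, br_neg_left, br_neg_right, neg_neg, br_anti (act x (act x A)), hm, act_add, act_smul, act_smul c m', h4,
    h5] at f3
  obtain ⟨f4, -, -⟩ := R.indep h2 (a := m + m') (b := m + m') (c := 0) (by linear_combination (norm := module) f3)
  have f5 : br (act x A) (act x (act x A)) = m • A := by
    rw [hm, ← hA, show m' = -m by linear_combination f4]
    module
  have f6 := (R.conj' x1).AA_minus h2 e4
  rw [← act_sub, hA] at f6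
  have f7 := kf_inv h2 (act x A) (act x (act x A)) (br (act x A) (act x (act x A)))
  rw [f6, f5, map_smul, map_smul, LinearMap.smul_apply, map_neg, neg_neg, kf_act, kf_act, ← hA, R.kf_AA h2, smul_eq_mul,
    smul_eq_mul] at f7
  rcases mul_self_eq_one_iff.1 (show m * m = 1 from mul_right_cancel₀ h2 (by linear_combination -f7)) with e | e
  · exact ⟨l, hl, h4, by rw [hA, f5, e, one_smul]⟩
  · have f8 : (-l) • E[α] - (-l)⁻¹ • E[op α] = -A := by rw [← hA, inv_neg]; module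
    refine ⟨-l, neg_ne_zero.2 hl, by rw [neg_smul, act_neg, h4, inv_neg, neg_smul], ?_⟩
    rw [f8, act_neg, act_neg, br_neg_left, br_neg_right, neg_neg, f5, e, neg_one_smul]

theorem exists_cy : ∃ (l : K₀) (n : G8 K₀) (e f : L8 K₀), l ≠ 0 ∧ e = l • E[α] ∧ f = l⁻¹ • E[op α] ∧
    act c (e - f) = -(e - f) ∧
    Cy a1 a2 (a1 * a2) n (x * n * x⁻¹) (x * (x * n * x⁻¹) * x⁻¹) e f (act x e) (act x f) (act x (act x e))
      (act x (act x f)) := by
  have h2 := two_K hp
  obtain ⟨l, hl, h4, h5⟩ := exists_ef hp h1 h3 hab hγ hx x1 x2 hc c1 cx ch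
  have R := (rz_std h1).smul hl
  obtain ⟨n, hn⟩ := R.exists_nn h2
  have n2 := neg_E h3 (r := α) (Or.inr (ip_comm _ _ ▸ hab))
  have x3 : x * (a1 * a2) = a1 * x := by
    rw [← mul_assoc, x1, mul_assoc, x2, ← mul_assoc, ← mul_assoc, ← dz_comm h1 h3, mul_assoc a1, (rz_std h3).one, mul_one]
  have h6 : ∀ v, act x (act x (act x v)) = v := fun v => by rw [← act_mul, ← act_mul, ← pow_three', hx, act_one]
  have s1 : act a2 (l • E[α]) = -(l • E[α]) ∧ act a2 (l⁻¹ • E[op α]) = -(l⁻¹ • E[op α]) := by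
    rw [act_smul, act_smul, n2.1, n2.2, smul_neg, smul_neg]
    exact ⟨rfl, rfl⟩
  refine ⟨l, n, _, _, hl, rfl, rfl, by rw [act_sub, h4, ← h4, act_two hc, neg_sub], ?_⟩
  generalize l • E[α] = e at R hn s1 h5
  generalize l⁻¹ • E[op α] = f at R hn s1 h5
  have s2 : act (a1 * a2) (act x e) = -act x e ∧ act (a1 * a2) (act x f) = -act x f := by
    rw [← act_mul, ← act_mul, ← x2, act_mul, act_mul, s1.1, s1.2, act_neg, act_neg]
    exact ⟨rfl, rfl⟩
  have g2 := hn.conj x1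
  have g3 := g2.conj x2
  have b3 := congrArg (act x) h5
  rw [act_br, h6] at b3
  have b1 := congrArg (act x) b3
  rw [act_br, h6] at b1
  simp only [act_sub] at g2 g3 h5 b3 b1
  refine ⟨R, R.conj' x1, (R.conj' x1).conj' x2, rfl, hn, g2, g3, s1, s2, ?_, b1, h5, b3⟩
  rw [← act_mul, ← act_mul a1, ← x3, act_mul, act_mul x (a1 * a2), s2.1, s2.2, act_neg, act_neg]
  exact ⟨rfl, rfl⟩

end

end Cfsg.Agent.E8A.Odd
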