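import Cfsg.Agent.E8A.Odd.Rt5

/-!
# Box PT2: the frame (helper41)

* `Fs y z` : `y` commutes with `z` and fixes its long root subalgebra pointwise;
* `toral_add` : one more involution in the torus; `Fr`, `exists_fr` : five involutions in standard form.
-/

set_option autoImplicit false
set_option maxRecDepth 100000
set_option linter.unusedSectionVars false

namespace Cfsg.Agent.E8A.Odd

open CoxeterSystem Cfsg Cfsg.Lie Module
open Matrix hiding J J_transpose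
open Cfsg.Agent.ChevalleyStructure.CoxeterGeom Cfsg.Agent.ChevalleyStructure.CoxeterGeomTypes
open Cfsg.Agent.Tits.Roots Cfsg.Agent.Nodes.Reps Cfsg.Agent.Nodes.RGDChev
open Cfsg.Agent.KFacts.RgdChevCoord Cfsg.Agent.H129.TorusChar
open Cfsg.Agent.H942.E8Tab (e8T)
open Cfsg.Agent.H942.CB (W8 cs8)
open Cfsg.Agent.H288.E8L (Q8 wt act8 wt_inl wt_inr rt_vec vec_ne_zero exists_idx wt_inj)
open Cfsg.Agent.H952.F4 (ev)
open Cfsg.Agent.E8A.Frm (B0 fm8 finW8)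
open Cfsg.Agent.E8A.Inf (kf kf_comm kf_act kf_act' kf_nd)
open Cfsg.Agent.E8A.Par (op vec_op op_ne kf_ee ext_act)
open Cfsg.Agent.E8A.Reg5.Cls (ex dz)
open Cfsg.Agent.E8A.Two
open Cfsg.Agent.E8A.TwoH

universe u

section

variable {K : Type u} [Field K]

/-- `y` commutes with `z` and fixes its long root subalgebra -/
def Fs (y z : G8 K) : Prop := y * z = z * y ∧ ∀ e f, Rz z e f → act y e = e ∧ act y f = f

theorem Fs.mul {x y z : G8 K} (h : Fs x z) (h' : Fs y z) : Fs (x * y) z :=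
  ⟨by rw [mul_assoc, h'.1, ← mul_assoc, h.1, mul_assoc], fun e f R => by
    rw [act_mul, act_mul, (h'.2 e f R).1, (h'.2 e f R).2]
    exact h.2 e f R⟩

theorem Fs.conj {y z : G8 K} (h : Fs y z) (g : G8 K) : Fs (g * y * g⁻¹) (g * z * g⁻¹) :=
  ⟨by rw [show g * y * g⁻¹ * (g * z * g⁻¹) = g * (y * z) * g⁻¹ by group, h.1]; group, fun e f R => by
    have h1 := h.2 _ _ (R.conj' (y := g⁻¹) (z' := z) (by group))
    rw [act_mul, act_mul, act_mul, act_mul, h1.1, h1.2, act_inv', act_inv']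
    exact ⟨rfl, rfl⟩⟩

theorem act_dz_ee {t : G8 K} {c : K} {r : Ix} (ht : mx t = dz c (cv r)) (s : Ix) :
    act t (ee K (Sum.inr s)) = c ^ ip r s • ee K (Sum.inr s) := funext fun k => by
  rw [act_dz ht, Pi.smul_apply, smul_eq_mul]
  by_cases e : k = Sum.inr s
  · rw [e, ex_cv, wt_inr, ip]
  · rw [ee_ne e, mul_zero, mul_zero]

theorem ip_self (r : Ix) : ip r r = 2 := B0_vec r

theorem dz_comm {t t' : G8 K} {c c' : K} {y y' : Q8} (ht : mx t = dz c y) (ht' : mx t' = dz c' y') : t * t' = t' * t :=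
  mx_injective (by
    rw [mx_mul, mx_mul, ht, ht', dz, dz, Matrix.diagonal_mul_diagonal, Matrix.diagonal_mul_diagonal]
    congr 1
    exact funext fun i => mul_comm _ _)

theorem dz_pow' (c : K) (y : Q8) (m : ℕ) : dz c y ^ m = dz (c ^ m) y := by
  rw [dz, dz, Matrix.diagonal_pow]
  congr 1
  funext j
  rw [Pi.pow_apply, ← zpow_natCast, ← zpow_natCast, ← _root_.zpow_mul, ← _root_.zpow_mul, mul_comm]

/-- five involutions in standard form -/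
structure Fr (a1 a2 b1 b2 z : G8 K) (α β α' β' δ : Ix) : Prop where
  a1 : mx a1 = dz (-1) (cv α)
  a2 : mx a2 = dz (-1) (cv β)
  b1 : mx b1 = dz (-1) (cv α')
  b2 : mx b2 = dz (-1) (cv β')
  z : mx z = dz (-1) (cv δ)
  ab : ip α β = -1
  aa' : ip α α' = 0
  ba' : ip β α' = 0
  ab' : ip α β' = 0
  bb' : ip β β' = 0
  ab'' : ip α' β' = -1
  ad : ip α δ = 0
  bd : ip β δ = 0
  ad' : ip α' δ = 0
  bd' : ip β' δ = 0

theorem ip_zero (h2 : (2 : K) ≠ 0) {y z : G8 K} {r s : Ix} (hy : mx y = dz (-1) (cv r)) (hz : mx z = dz (-1) (cv s))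
    (h : Fs y z) (hne : y ≠ z) : ip r s = 0 := by
  have h1 := (h.2 _ _ (rz_std hz)).1
  rw [act_dz_ee hy] at h1
  have h3 : (-1 : K) ^ ip r s = (-1) ^ (0 : ℤ) := by
    rw [zpow_zero]
    exact smul_left_injective K (ee_ne_zero _) (h1.trans (one_smul _ _).symm)
  obtain ⟨m, hm⟩ := parity h2 h3
  have h4 := gr_cases r (Sum.inr s)
  rw [wt_inr] at h4
  rw [ip] at hm ⊢
  rcases h4 with h4 | h4 | h4 | h4 | h4
  · exact h4
  · omega
  · omega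
  · exact absurd (mx_injective (by rw [hy, hz, Sum.inr_injective h4.2])) hne
  · exact absurd (mx_injective (by rw [hy, hz, Sum.inr_injective h4.2, dz_op])) hne

end

section

variable {p : ℕ} [Fact p.Prime] (hp : p ≠ 2)
include hp

theorem fs_of {z y : G8 (Kb (ZMod p))} (hy : y * y = 1) (hc : y * z = z * y) (h1 : ev (LK _ y) 1 = 136)
    (h3 : ev (LK _ (y * z)) 1 ≠ 136) : Fs y z :=
  ⟨hc, fun e f R => ⟨fix_of_types hp R hy hc h1 h3 (e_mem e f), fix_of_types hp R hy hc h1 h3 (f_mem e f)⟩⟩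

theorem fs_of_fix {z y : G8 (Kb (ZMod p))} {e f : L8 (Kb (ZMod p))} (h : Rz z e f) (he : act y e = e)
    (hf : act y f = f) : Fs y z := by
  refine ⟨?_, fun e' f' R => ⟨fix_Sz he hf (h.Sz_unique hp R ▸ e_mem e' f'), fix_Sz he hf (h.Sz_unique hp R ▸ f_mem e' f')⟩⟩
  have h1 := (h.conj y).eq_of_Sz (two_K hp) h (by rw [he, hf])
  rw [← mul_inv_eq_iff_eq_mul, h1]

theorem toral_add {Z : Set (G8 (Kb (ZMod p)))} (hfin : Z.Finite)
    (hZ : ∃ g : G8 (Kb (ZMod p)), ∀ t ∈ Z, g * t * g⁻¹ ∈ TT chevE8 (Kb (ZMod p))) (h1 : ∀ t ∈ Z, t * t = 1)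
    (hZc : ∀ t ∈ Z, ∀ t' ∈ Z, t * t' = t' * t) {z : G8 (Kb (ZMod p))} {e f : L8 (Kb (ZMod p))} (h : Rz z e f)
    (hc : ∀ t ∈ Z, t * z = z * t ∧ ((act t e = e ∧ act t f = f) ∨ (act t e = -e ∧ act t f = -f))) :
    ∃ g : G8 (Kb (ZMod p)), ∀ t ∈ insert z Z, g * t * g⁻¹ ∈ TT chevE8 (Kb (ZMod p)) := by
  have := finW8
  have h2 := two_K hp
  obtain ⟨g, hg⟩ := hZ
  obtain ⟨k, z₀, r, hz, rfl, rfl, rfl⟩ := h.std
  obtain ⟨l, hl⟩ := IsAlgClosed.exists_pow_nat_eq (-1 : Kb (ZMod p)) (n := Nat.card W8) Nat.card_pos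
  obtain ⟨i, hi⟩ := IsAlgClosed.exists_pow_nat_eq (-1 : Kb (ZMod p)) (n := 2) two_pos
  have hl0 : l ≠ 0 := fun e => by
    rw [e, zero_pow Nat.card_pos.ne'] at hl
    exact one_ne_zero (neg_eq_zero.1 hl.symm)
  have hi0 : i ≠ 0 := fun e => by
    rw [e, zero_pow two_ne_zero] at hi
    exact one_ne_zero (neg_eq_zero.1 hi.symm)
  obtain ⟨t₀, -, ht⟩ := exists_tz hl0 (cv r)
  obtain ⟨s, -, hs⟩ := exists_tz hi0 (cv r)
  have hs1 : act s (ee _ (Sum.inr r)) = -ee _ (Sum.inr r) := by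
    rw [act_dz_ee hs, ip_self, zpow_ofNat, hi, neg_one_smul]
  have hs2 : act s (ee _ (Sum.inr (op r))) = -ee _ (Sum.inr (op r)) := by
    rw [act_dz_ee hs, ip_op, ip_self, _root_.zpow_neg, zpow_ofNat, hi, inv_neg, inv_one, neg_one_smul]
  have h3 : ∀ t ∈ Z, k⁻¹ * t * k * t₀ = t₀ * (k⁻¹ * t * k) := fun t htZ => by
    obtain ⟨h4, h5⟩ := hc t htZ
    have h6 : k⁻¹ * t * k * z₀ = z₀ * (k⁻¹ * t * k) := by
      rw [show k⁻¹ * t * k * z₀ = k⁻¹ * (t * (k * z₀ * k⁻¹)) * k by group, h4]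
      group
    rcases h5 with h5 | h5
    · exact comm_tz h2 hz ht h6 (by rw [act_mul, act_mul, h5.1, act_inv]) (by rw [act_mul, act_mul, h5.2, act_inv])
    · have h7 := comm_tz h2 hz ht (y := k⁻¹ * t * k * s) (by rw [mul_assoc _ s, dz_comm hs hz, ← mul_assoc, h6, mul_assoc])
        (by rw [act_mul, hs1, act_neg, act_mul, act_mul, h5.1, act_neg, act_inv, neg_neg])
        (by rw [act_mul, hs2, act_neg, act_mul, act_mul, h5.2, act_neg, act_inv, neg_neg])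
      rw [mul_assoc _ s, dz_comm hs ht, ← mul_assoc, ← mul_assoc t₀] at h7
      exact mul_right_cancel h7
  have h4 : t₀ ^ Nat.card W8 = z₀ := mx_injective (by rw [Inf.mx_pow, ht, dz_pow', hl, hz])
  have hZ' : (fun t => g * t * g⁻¹) '' Z ⊆ TT chevE8 (Kb (ZMod p)) := by
    rintro _ ⟨t, htZ, rfl⟩
    exact hg t htZ
  have h5 := DS.Nt.pow_card_mem_DZ (hp := e8T) (p := p) (hfin.image _) hZ' (c := g * k * t₀ * (g * k)⁻¹) (by
    rintro _ ⟨t, htZ, rfl⟩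
    show _ * (g * t * g⁻¹) = g * t * g⁻¹ * _
    rw [show g * k * t₀ * (g * k)⁻¹ * (g * t * g⁻¹) = g * k * (t₀ * (k⁻¹ * t * k)) * (g * k)⁻¹ by group, ← h3 t htZ]
    group)
  rw [conj_pow] at h5
  erw [h4] at h5
  have h6 : k * z₀ * k⁻¹ * (k * z₀ * k⁻¹) = 1 := h.one
  obtain ⟨g', hg'⟩ := DS.Nt.toral_step (hp := e8T) (p := p) (r := 2) (n := 1) Nat.prime_two hp.symm (hfin.image _) hZ' h5
    (by rw [pow_one, pow_two, show g * k * z₀ * (g * k)⁻¹ * (g * k * z₀ * (g * k)⁻¹) =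
      g * (k * z₀ * k⁻¹ * (k * z₀ * k⁻¹)) * g⁻¹ by group, h6, mul_one, mul_inv_cancel])
    (DS.Nt.isPGroup_of_comm (S := (fun t => g * t * g⁻¹) '' insert (k * z₀ * k⁻¹) Z) (by
      rintro _ ⟨x, hx, rfl⟩ _ ⟨y, hy, rfl⟩
      have h7 : x * y = y * x := by
        rcases hx with rfl | hx
        · rcases hy with rfl | hy
          · rfl
          · exact (hc y hy).1.symm
        · rcases hy with rfl | hy
          · exact (hc x hx).1
          · exact hZc x hx y hy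
      show g * x * g⁻¹ * (g * y * g⁻¹) = g * y * g⁻¹ * (g * x * g⁻¹)
      rw [show g * x * g⁻¹ * (g * y * g⁻¹) = g * (x * y) * g⁻¹ by group, h7]
      group) (by
      rintro _ ⟨x, hx, rfl⟩
      refine ⟨1, ?_⟩
      show (g * x * g⁻¹) ^ _ = 1
      rw [pow_one, conj_pow, pow_two]
      rcases hx with rfl | hx
      · rw [h6, mul_one, mul_inv_cancel]
      · rw [h1 x hx, mul_one, mul_inv_cancel]))
    (by rw [Set.image_insert_eq, show g * (k * z₀ * k⁻¹) * g⁻¹ = g * k * z₀ * (g * k)⁻¹ by group])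
  refine ⟨g' * g, fun t ht => ?_⟩
  rw [show g' * g * t * (g' * g)⁻¹ = g' * (g * t * g⁻¹) * g'⁻¹ by group]
  exact hg' _ (Subgroup.subset_closure ⟨t, ht, rfl⟩)

theorem exists_neg {y z : G8 (Kb (ZMod p))} {r s : Ix} (hy : mx y = dz (-1) (cv r)) (hz : mx z = dz (-1) (cv s))
    (h : ev (LK _ (z * y)) 1 = 136) : ∃ s', mx z = dz (-1) (cv s') ∧ ip r s' = -1 := by
  obtain ⟨m, hm⟩ := odd_of_ev hp hy hz h
  have h4 := gr_cases r (Sum.inr s)
  rw [wt_inr] at h4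
  rcases h4 with h4 | h4 | h4 | h4 | h4
  · omega
  · exact ⟨op s, by rw [dz_op, hz], by rw [ip_op, ip, h4]⟩
  · exact ⟨s, hz, h4⟩
  · omega
  · omega

theorem exists_fr {a1 a2 b1 b2 z : G8 (Kb (ZMod p))} (e1 : ∀ t ∈ [a1, a2, b1, b2, z], t * t = 1 ∧ ev (LK _ t) 1 = 136)
    (ha : a2 * a1 = a1 * a2) (hb : b2 * b1 = b1 * b2) (ea : ev (LK _ (a2 * a1)) 1 = 136)
    (eb : ev (LK _ (b1 * b2)) 1 = 136) (h1 : ∀ t ∈ [a1, a2], ∀ t' ∈ [b1, b2], Fs t t' ∧ t ≠ t')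
    (h3 : ∀ t ∈ [a1, a2, b1, b2], Fs t z ∧ t ≠ z) :
    ∃ (g : G8 (Kb (ZMod p))) (α β α' β' δ : Ix),
      Fr (g * a1 * g⁻¹) (g * a2 * g⁻¹) (g * b1 * g⁻¹) (g * b2 * g⁻¹) (g * z * g⁻¹) α β α' β' δ := by
  have h2 := two_K hp
  have h0 : (-1 : Kb (ZMod p)) ≠ 0 := neg_ne_zero.2 one_ne_zero
  simp only [List.mem_cons, List.not_mem_nil, or_false, forall_eq_or_imp, forall_eq] at e1 h1 h3
  obtain ⟨⟨i1, v1⟩, ⟨i2, v2⟩, ⟨i3, v3⟩, ⟨i4, v4⟩, i5, v5⟩ := e1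
  obtain ⟨⟨⟨f1, n1⟩, f2, n2⟩, ⟨f3, n3⟩, f4, n4⟩ := h1
  obtain ⟨⟨f5, n5⟩, ⟨f6, n6⟩, ⟨f7, n7⟩, f8, n8⟩ := h3
  obtain ⟨g₀, r, s, hr, hs⟩ := pair_frame hp i1 i2 ha v1 v2
  obtain ⟨e, f, R⟩ := exists_rz hp i3 v3
  obtain ⟨e', f', R', m1, m2⟩ := neg_of_types hp i4 i3 hb.symm v4 v3 eb
  obtain ⟨e'', f'', R''⟩ := exists_rz hp i5 v5
  have t1 := toral_add hp (Z := {a1, a2}) (Set.toFinite _) ⟨g₀, by
      simp only [Set.mem_insert_iff, Set.mem_singleton_iff, forall_eq_or_imp, forall_eq]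
      exact ⟨mem_TT h0 hr, mem_TT h0 hs⟩⟩
    (by simp only [Set.mem_insert_iff, Set.mem_singleton_iff, forall_eq_or_imp, forall_eq, i1, i2, and_self])
    (by simp only [Set.mem_insert_iff, Set.mem_singleton_iff, forall_eq_or_imp, forall_eq, ha, and_self]) R
    (by simp only [Set.mem_insert_iff, Set.mem_singleton_iff, forall_eq_or_imp, forall_eq]
        exact ⟨⟨f1.1, Or.inl (f1.2 _ _ R)⟩, f3.1, Or.inl (f3.2 _ _ R)⟩)
  have t2 := toral_add hp (Set.toFinite _) t1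
    (by simp only [Set.mem_insert_iff, Set.mem_singleton_iff, forall_eq_or_imp, forall_eq, i1, i2, i3, and_self])
    (by simp only [Set.mem_insert_iff, Set.mem_singleton_iff, forall_eq_or_imp, forall_eq, ha, f1.1, f3.1, and_self]) R'
    (by simp only [Set.mem_insert_iff, Set.mem_singleton_iff, forall_eq_or_imp, forall_eq]
        exact ⟨⟨hb.symm, Or.inr ⟨m1, m2⟩⟩, ⟨f2.1, Or.inl (f2.2 _ _ R')⟩, f4.1, Or.inl (f4.2 _ _ R')⟩)
  obtain ⟨g, hg⟩ := toral_add hp (Set.toFinite _) t2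
    (by simp only [Set.mem_insert_iff, Set.mem_singleton_iff, forall_eq_or_imp, forall_eq, i1, i2, i3, i4, and_self])
    (by simp only [Set.mem_insert_iff, Set.mem_singleton_iff, forall_eq_or_imp, forall_eq, ha, hb, f1.1, f2.1, f3.1,
      f4.1, and_self]) R''
    (by simp only [Set.mem_insert_iff, Set.mem_singleton_iff, forall_eq_or_imp, forall_eq]
        exact ⟨⟨f8.1, Or.inl (f8.2 _ _ R'')⟩, ⟨f7.1, Or.inl (f7.2 _ _ R'')⟩, ⟨f5.1, Or.inl (f5.2 _ _ R'')⟩, f6.1,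
          Or.inl (f6.2 _ _ R'')⟩)
  have h4 : ∀ t : G8 (Kb (ZMod p)), t ∈ ({z, b2, b1, a1, a2} : Set _) → t * t = 1 → ev (LK _ t) 1 = 136 →
      ∃ r, mx (g * t * g⁻¹) = dz (-1) (cv r) := fun t ht hi hv =>
    exists_root hp (hg t ht) (by rw [← pow_two, conj_pow, pow_two, hi, mul_one, mul_inv_cancel]) (by rw [Inf.ev_conj, hv])
  have h5 : ∀ s t : G8 (Kb (ZMod p)), ev (LK _ (g * s * g⁻¹ * (g * t * g⁻¹))) 1 = ev (LK _ (s * t)) 1 := fun s t => by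
    rw [show g * s * g⁻¹ * (g * t * g⁻¹) = g * (s * t) * g⁻¹ by group, Inf.ev_conj]
  have h6 : ∀ {s t : G8 (Kb (ZMod p))}, s ≠ t → g * s * g⁻¹ ≠ g * t * g⁻¹ := fun h e =>
    h (mul_left_cancel (mul_right_cancel e))
  obtain ⟨α, hα⟩ := h4 a1 (by simp) i1 v1
  obtain ⟨β₀, hβ₀⟩ := h4 a2 (by simp) i2 v2
  obtain ⟨α', hα'⟩ := h4 b1 (by simp) i3 v3
  obtain ⟨β₁, hβ₁⟩ := h4 b2 (by simp) i4 v4
  obtain ⟨δ, hδ⟩ := h4 z (by simp) i5 v5
  obtain ⟨β, hβ, j1⟩ := exists_neg hp hα hβ₀ (by rw [h5, ea])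
  obtain ⟨β', hβ', j2⟩ := exists_neg hp hα' hβ₁ (by rw [h5, hb, eb])
  exact ⟨g, α, β, α', β', δ, hα, hβ, hα', hβ', hδ, j1, ip_zero h2 hα hα' (f1.conj g) (h6 n1),
    ip_zero h2 hβ hα' (f3.conj g) (h6 n3), ip_zero h2 hα hβ' (f2.conj g) (h6 n2), ip_zero h2 hβ hβ' (f4.conj g) (h6 n4), j2,
    ip_zero h2 hα hδ (f5.conj g) (h6 n5), ip_zero h2 hβ hδ (f6.conj g) (h6 n6), ip_zero h2 hα' hδ (f7.conj g) (h6 n7),
    ip_zero h2 hβ' hδ (f8.conj g) (h6 n8)⟩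

end

end Cfsg.Agent.E8A.Odd
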