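import Cfsg.Agent.E8A.Odd.Pt2So
import Cfsg.Agent.E8A.Odd.Pt2La

/-!
# Box PT2: the four spaces of dimension 3 (helper41)

* `Sp r` : the span of three root vectors; `Om` : the common eigenspaces of four coroots; `om_eq`;
* `noswap`, `signs` : the action of the involutions `c`, `ι`;
* `yy` : the two elements of order 3 generate the same group.
-/

set_option autoImplicit false
set_option maxRecDepth 100000
set_option linter.unusedSectionVars false

namespace Cfsg.Agent.E8A.Odd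

open Cfsg Cfsg.Lie Module
open Cfsg.Agent.Nodes.RGDChev
open Cfsg.Agent.H288.E8L (Q8 wt wt_inl wt_inr)
open Cfsg.Agent.E8A.Frm (B0)
open Cfsg.Agent.E8A.Inf (kf kf_comm kf_act kf_act' kf_nd)
open Cfsg.Agent.E8A.Par (op vec_op kf_ee ext_act)
open Cfsg.Agent.E8A.TwoH

universe u

variable {K : Type u} [Field K]

local notation "E[" r "]" => ee K (Sum.inr r)
local notation "H[" r "]" => hq K (vec chevE8 8 r)

theorem br_H (r : Ix) (u : L8 K) (i : chevE8.Idx) : br H[r] u i = ((B0 (vec chevE8 8 r) (wt i) : ℤ) : K) * u i := by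
  rw [br_T (inT_hq _), rl_hq]

theorem br_HE (r s : Ix) : br H[r] E[s] = ((ip r s : ℤ) : K) • E[s] := br_hq (ee_mem_LS rfl)

theorem fix_H {g : G8 K} {r : Ix} (h1 : act g E[r] = E[r]) (h3 : act g E[op r] = E[op r]) : act g H[r] = H[r] := by
  rw [← br_ee_op, act_br, h1, h3]

theorem inv_fix {g : G8 K} {v : L8 K} (h : act g v = v) : act g⁻¹ v = v := by
  nth_rewrite 1 [← h]
  rw [act_inv]

theorem act_two {g : G8 K} (h : g * g = 1) (v : L8 K) : act g (act g v) = v := by rw [← act_mul, h, act_one]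

theorem br_act (g : G8 K) (x v : L8 K) : br x (act g v) = act g (br (act g⁻¹ x) v) := by rw [act_br, act_inv']

theorem br_act' {g : G8 K} (h : g * g = 1) (x v : L8 K) : br x (act g v) = act g (br (act g x) v) := by
  rw [act_br, act_two h]

variable (K) in
/-- the span of three root vectors -/
noncomputable def Sp (r : Fin 3 → Ix) : Submodule K (L8 K) := Submodule.span K (Set.range fun k => E[r k])

theorem E_mem (r : Fin 3 → Ix) (k : Fin 3) : E[r k] ∈ Sp K r := Submodule.subset_span ⟨k, rfl⟩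

theorem mem_Sp {r : Fin 3 → Ix} {u : L8 K} : u ∈ Sp K r ↔ ∀ i, u i ≠ 0 → ∃ k, i = Sum.inr (r k) := by
  refine ⟨fun h => ?_, fun h => ?_⟩
  · induction h using Submodule.span_induction with
    | mem x hx =>
      obtain ⟨k, rfl⟩ := hx
      exact fun i hi => ⟨k, by_contra fun e => hi (ee_ne e)⟩
    | zero => exact fun i hi => absurd rfl hi
    | add x y _ _ hx hy =>
      intro i hi
      by_cases e : x i = 0
      · exact hy i fun e' => hi (by rw [Pi.add_apply, e, e', add_zero])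
      · exact hx i e
    | smul c x _ hx => exact fun i hi => hx i fun e => hi (by rw [Pi.smul_apply, e, smul_zero])
  · rw [pi_eq_sum_univ' u]
    refine Submodule.sum_mem _ fun i _ => ?_
    by_cases e : u i = 0
    · rw [e, zero_smul]
      exact Submodule.zero_mem _
    · obtain ⟨k, rfl⟩ := h i e
      exact Submodule.smul_mem _ _ (E_mem r k)

theorem finrank_Sp (r : Fin 3 → Ix) : finrank K ↥(Sp K r) ≤ 3 := (finrank_range_le_card _).trans (by simp)

theorem Sp_nd {r : Fin 3 → Ix} {u : L8 K} (hu : u ∈ Sp K fun k => op (r k)) (h : ∀ v ∈ Sp K r, kf K u v = 0) : u = 0 :=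
  funext fun i => by_contra fun e => by
    obtain ⟨k, rfl⟩ := mem_Sp.1 hu i e
    exact e (by rw [← kf_ee (r k) u, kf_comm, h _ (E_mem r k), Pi.zero_apply])

theorem Sp_diag {r : Fin 3 → Ix} {u : L8 K} (hu : u ∈ Sp K r) {d x : Ix} {c : K}
    (h : ∀ k, ((ip d (r k) : ℤ) : K) = c → r k = x) (hc : br H[d] u = c • u) : ∃ t : K, u = t • E[x] := by
  refine ⟨u (Sum.inr x), funext fun i => ?_⟩
  rw [Pi.smul_apply, smul_eq_mul]
  by_cases e : i = Sum.inr x
  · rw [e, ee_self, mul_one]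
  · rw [ee_ne e, mul_zero]
    by_contra e'
    obtain ⟨k, rfl⟩ := mem_Sp.1 hu i e'
    have h1 := congrFun hc (Sum.inr (r k))
    rw [br_H, Pi.smul_apply, smul_eq_mul] at h1
    exact e (congrArg Sum.inr (h k (mul_right_cancel₀ e' h1)))

/-- the common eigenspaces -/
def Om (a b a' b' : Ix) (ε ε' : K) : Submodule K (L8 K) where
  carrier := {u | br H[a] u = 0 ∧ br H[b] u = ε • u ∧ br H[a'] u = 0 ∧ br H[b'] u = ε' • u}
  zero_mem' := by simp only [Set.mem_ofPred_eq, br_zero_right, smul_zero, and_self]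
  add_mem' := fun hu hv => by
    simp only [Set.mem_ofPred_eq, br_add_right, hu.1, hu.2.1, hu.2.2.1, hu.2.2.2, hv.1, hv.2.1, hv.2.2.1, hv.2.2.2,
      smul_add, add_zero, and_self]
  smul_mem' := fun c _ hu => by
    simp only [Set.mem_ofPred_eq, br_smul_right, hu.1, hu.2.1, hu.2.2.1, hu.2.2.2, smul_zero, smul_comm c, and_self]

variable {a b a' b' d : Ix}

theorem Om_fix {g : G8 K} (h1 : act g H[a] = H[a]) (h3 : act g H[b] = H[b]) (h4 : act g H[a'] = H[a'])
    (h5 : act g H[b'] = H[b']) {ε ε' : K} {u : L8 K} (hu : u ∈ Om a b a' b' ε ε') : act g u ∈ Om a b a' b' ε ε' := by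
  obtain ⟨u1, u2, u3, u4⟩ := hu
  refine ⟨?_, ?_, ?_, ?_⟩
  · rw [br_act, inv_fix h1, u1, act_zero]
  · rw [br_act, inv_fix h3, u2, act_smul]
  · rw [br_act, inv_fix h4, u3, act_zero]
  · rw [br_act, inv_fix h5, u4, act_smul]

theorem Om_c {c : G8 K} (hc : c * c = 1) {s s' η η' : K} (h1 : act c H[a] = s • H[a])
    (h3 : act c H[b] = η • (H[a] + H[b])) (h4 : act c H[a'] = s' • H[a']) (h5 : act c H[b'] = η' • (H[a'] + H[b']))
    {ε ε' : K} {u : L8 K} (hu : u ∈ Om a b a' b' ε ε') : act c u ∈ Om a b a' b' (η * ε) (η' * ε') := by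
  obtain ⟨u1, u2, u3, u4⟩ := hu
  refine ⟨?_, ?_, ?_, ?_⟩
  · rw [br_act' hc, h1, br_smul_left, u1, smul_zero, act_zero]
  · rw [br_act' hc, h3, br_smul_left, br_add_left, u1, u2, zero_add, smul_smul, act_smul]
  · rw [br_act' hc, h4, br_smul_left, u3, smul_zero, act_zero]
  · rw [br_act' hc, h5, br_smul_left, br_add_left, u3, u4, zero_add, smul_smul, act_smul]

theorem Om_i {j : G8 K} (hj : j * j = 1) {s μ : K} (hs : s * s = 1) (hμ : μ * μ = 1) (h1 : act j H[a] = s • H[a'])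
    (h3 : act j H[b] = μ • H[b']) {ε ε' : K} {u : L8 K} (hu : u ∈ Om a b a' b' ε ε') :
    act j u ∈ Om a b a' b' (μ * ε') (μ * ε) := by
  have h4 : ∀ {t : K} {v w : L8 K}, t * t = 1 → act j v = t • w → act j w = t • v := fun {t v w} ht h => by
    rw [← act_two hj v, h, act_smul, smul_smul, ht, one_smul]
  obtain ⟨u1, u2, u3, u4⟩ := hu
  refine ⟨?_, ?_, ?_, ?_⟩
  · rw [br_act' hj, h1, br_smul_left, u3, smul_zero, act_zero]
  · rw [br_act' hj, h3, br_smul_left, u4, smul_smul, act_smul]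
  · rw [br_act' hj, h4 hs h1, br_smul_left, u1, smul_zero, act_zero]
  · rw [br_act' hj, h4 hμ h3, br_smul_left, u2, smul_smul, act_smul]

variable (h2 : (2 : K) ≠ 0)
include h2

theorem Om_sign {ε₁ ε₁' ε₂ ε₂' : K} {u : L8 K} (h0 : u ≠ 0) (h1 : u ∈ Om a b a' b' ε₁ ε₁') (h3 : u ∈ Om a b a' b' ε₂ ε₂') :
    ε₁ = ε₂ ∧ ε₁' = ε₂' :=
  ⟨smul_left_injective K h0 (h1.2.1.symm.trans h3.2.1), smul_left_injective K h0 (h1.2.2.2.symm.trans h3.2.2.2)⟩

theorem cast_inj {m k : ℤ} (h : (m : K) = k) (h1 : -2 ≤ m - k) (h3 : m - k ≤ 2) : m = k := by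
  have h4 : ((m - k : ℤ) : K) = 0 := by rw [Int.cast_sub, h, sub_self]
  generalize hn : m - k = n at h1 h3 h4
  interval_cases n
  · exact absurd (by simpa using h4) h2
  · simp at h4
  · omega
  · simp at h4
  · exact absurd (by simpa using h4) h2

theorem wt_aux (hab : ip a b = -1) {ε : ℤ} (hε : ε = 1 ∨ ε = -1) {i : chevE8.Idx}
    (h1 : ((B0 (vec chevE8 8 a) (wt i) : ℤ) : K) = 0) (h3 : ((B0 (vec chevE8 8 b) (wt i) : ℤ) : K) = ε) :
    B0 (vec chevE8 8 a) (wt i) = 0 ∧ B0 (vec chevE8 8 b) (wt i) = ε := by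
  have h4 := gr_cases a i
  have h5 := cast_inj h2 (k := 0) (h1.trans Int.cast_zero.symm) (by omega) (by omega)
  refine ⟨h5, ?_⟩
  rcases gr_cases b i with e | e | e | ⟨-, e⟩ | ⟨-, e⟩
  · exact cast_inj h2 h3 (by omega) (by omega)
  · exact cast_inj h2 h3 (by omega) (by omega)
  · exact cast_inj h2 h3 (by omega) (by omega)
  · rw [e, wt_inr, ← ip, hab] at h5
    omega
  · rw [e, wt_inr, ← ip, ip_op, hab] at h5
    omega

theorem om_eq (hab : ip a b = -1) (hab' : ip a' b' = -1) {ε ε' : ℤ} (hε : ε = 1 ∨ ε = -1) (hε' : ε' = 1 ∨ ε' = -1)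
    {r : Fin 3 → Ix} (h : ∀ x, (ip a x = 0 ∧ ip b x = ε ∧ ip a' x = 0 ∧ ip b' x = ε') ↔ ∃ k, x = r k) :
    Om a b a' b' (ε : K) (ε' : K) = Sp K r ∧ Om a b a' b' (-ε : K) (-ε' : K) = Sp K fun k => op (r k) := by
  have key : ∀ {ε ε' : ℤ} {r : Fin 3 → Ix}, (ε = 1 ∨ ε = -1) → (ε' = 1 ∨ ε' = -1) →
      (∀ x, (ip a x = 0 ∧ ip b x = ε ∧ ip a' x = 0 ∧ ip b' x = ε') ↔ ∃ k, x = r k) →
      Om a b a' b' (ε : K) (ε' : K) = Sp K r := by
    intro ε ε' r hε hε' h
    refine le_antisymm (fun u hu => mem_Sp.2 fun i hi => ?_) (Submodule.span_le.2 ?_)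
    · obtain ⟨u1, u2, u3, u4⟩ := hu
      have e1 := congrFun u1 i
      have e2 := congrFun u2 i
      have e3 := congrFun u3 i
      have e4 := congrFun u4 i
      rw [br_H] at e1 e2 e3 e4
      obtain ⟨f1, f2⟩ := wt_aux h2 hab hε ((mul_eq_zero.1 e1).resolve_right hi) (mul_right_cancel₀ hi e2)
      obtain ⟨f3, f4⟩ := wt_aux h2 hab' hε' ((mul_eq_zero.1 e3).resolve_right hi) (mul_right_cancel₀ hi e4)
      rcases i with i | x
      · rw [wt_inl, map_zero] at f2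
        omega
      · obtain ⟨k, rfl⟩ := (h x).1 ⟨f1, f2, f3, f4⟩
        exact ⟨k, rfl⟩
    · rintro _ ⟨k, rfl⟩
      obtain ⟨f1, f2, f3, f4⟩ := (h _).2 ⟨k, rfl⟩
      refine ⟨?_, ?_, ?_, ?_⟩ <;> rw [br_HE]
      · rw [f1, Int.cast_zero, zero_smul]
      · rw [f2]
      · rw [f3, Int.cast_zero, zero_smul]
      · rw [f4]
  refine ⟨key hε hε' h, ?_⟩
  rw [← Int.cast_neg, ← Int.cast_neg]
  refine key (by omega) (by omega) fun x => ?_
  have h1 := h (op x)
  rw [ip_op, ip_op, ip_op, ip_op] at h1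
  refine ⟨fun e => ?_, fun ⟨k, e⟩ => ?_⟩
  · obtain ⟨k, e⟩ := h1.1 (by omega)
    exact ⟨k, by rw [← e, op_op]⟩
  · have h3 := h1.2 ⟨k, by rw [e, op_op]⟩
    omega

variable {ν : ℤ} {r s : Fin 3 → Ix}

theorem Phi.dinj (h : Phi a b a' b' d ν r s) {k l : Fin 3} (e : ((ip d (r k) : ℤ) : K) = (ip d (r l) : ℤ)) : k = l := by
  have h1 : ∀ k, ip d (r k) = ![-1, 1, 0] k := fun k => by
    fin_cases k
    exacts [h.d0, h.d1, h.d2]
  have h3 : ∀ k l : Fin 3, -2 ≤ (![-1, 1, 0] k - ![-1, 1, 0] l : ℤ) ∧ (![-1, 1, 0] k - ![-1, 1, 0] l : ℤ) ≤ 2 ∧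
      ((![-1, 1, 0] k : ℤ) = ![-1, 1, 0] l → k = l) := by decide
  rw [h1, h1] at e
  exact (h3 k l).2.2 (cast_inj h2 e (h3 k l).1 (h3 k l).2.1)

theorem Phi.diag (h : Phi a b a' b' d ν r s) {u : L8 K} (hu : u ∈ Sp K r) (k : Fin 3)
    (hc : br H[d] u = ((ip d (r k) : ℤ) : K) • u) : ∃ t : K, u = t • E[r k] :=
  Sp_diag hu (fun _ e => congrArg r (h.dinj h2 e)) hc

theorem Phi.diag' (h : Phi a b a' b' d ν r s) {u : L8 K} (hu : u ∈ Sp K fun k => op (r k)) (k : Fin 3)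
    (hc : br H[d] u = ((ip d (op (r k)) : ℤ) : K) • u) : ∃ t : K, u = t • E[op (r k)] :=
  Sp_diag hu (fun l e => by
    rw [ip_op, ip_op, Int.cast_neg, Int.cast_neg, neg_inj] at e
    rw [h.dinj h2 e]) hc

omit h2 in
theorem ip_add (x : Ix) {y z u : Ix} (h : vec chevE8 8 u = vec chevE8 8 y + vec chevE8 8 z) : ip x u = ip x y + ip x z := by
  rw [ip, h, map_add, ip, ip]

theorem Phi.noswap (h : Phi a b a' b' d ν r s) (hd : ip a d = 0 ∧ ip b d = 0 ∧ ip a' d = 0 ∧ ip b' d = 0) {j : G8 K}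
    (hj : j * j = 1) (h1 : act j E[d] = E[d]) (h3 : act j E[op d] = E[op d])
    (h4 : act j E[r 0] ∈ Sp K fun k => op (r k)) : False := by
  obtain ⟨t, ht⟩ := h.diag' h2 h4 1 (by rw [br_act' hj, fix_H h1 h3, br_HE, act_smul, ip_op, h.d0, h.d1])
  obtain ⟨u, hu⟩ := exists_add h.d0
  have h5 : u = r 1 := by
    obtain ⟨e1, e2, e3, e4⟩ := (h.r_iff (r 0)).2 ⟨0, rfl⟩
    obtain ⟨k, rfl⟩ := (h.r_iff u).1 (by
      rw [ip_add a hu, ip_add b hu, ip_add a' hu, ip_add b' hu]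
      omega)
    rw [h.dinj h2 (k := k) (l := 1) (by rw [ip_add d hu, ip_self, h.d0, h.d1]; rfl)]
  have h6 := kf_inv h2 E[d] (act j E[r 0]) E[r 0]
  rw [br_act' hj, h1, kf_act', inv_eq_of_mul_eq_one_left hj, br_ee_smul hu, h5, ht] at h6
  simp only [map_smul, LinearMap.smul_apply, kf_ee, op_op, ee_self, smul_eq_mul, mul_one] at h6
  have h7 : t ≠ 0 := fun e => ee_ne_zero _ (act_eq_zero (by rw [ht, e, zero_smul]))
  have h8 := adA_ne (K := K) hu
  rw [h5] at h8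
  exact mul_ne_zero h2 (mul_ne_zero h8 h7) (by linear_combination h6)

theorem Phi.signs (h : Phi a b a' b' d ν r s) (hab : ip a b = -1) (hab' : ip a' b' = -1)
    (hd : ip a d = 0 ∧ ip b d = 0 ∧ ip a' d = 0 ∧ ip b' d = 0) {c j : G8 K} (hc : c * c = 1) (hj : j * j = 1)
    (hcj : j * c = c * j) (c1 : act c E[d] = E[d]) (c2 : act c E[op d] = E[op d]) (j1 : act j E[d] = E[d])
    (j2 : act j E[op d] = E[op d]) {t t' η η' m μ : K} (hη : η * η = 1) (hm : m * m = 1) (hμ : μ * μ = 1)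
    (h1 : act c H[a] = t • H[a]) (h3 : act c H[b] = η • (H[a] + H[b])) (h4 : act c H[a'] = t' • H[a'])
    (h5 : act c H[b'] = η' • (H[a'] + H[b'])) (h6 : act j H[a] = m • H[a']) (h7 : act j H[b] = μ • H[b']) :
    η = 1 ∧ η' = 1 ∧ μ = ν := by
  obtain ⟨o1, o2⟩ := om_eq h2 hab hab' (Or.inl rfl) h.nu h.r_iff
  have hν : (ν : K) * ν = 1 := by rcases h.nu with e | e <;> simp [e]
  have u0 : E[r 0] ∈ Om a b a' b' ((1 : ℤ) : K) ν := o1 ▸ E_mem r 0
  have u1 := Om_c hc h1 h3 h4 h5 u0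
  have u2 := Om_i hj hm hμ h6 h7 u0
  have u3 := Om_i hj hm hμ h6 h7 u1
  have u4 := Om_c hc h1 h3 h4 h5 u2
  rw [← act_mul, ← hcj, act_mul] at u4
  have e1 := (Om_sign h2 (fun e => ee_ne_zero _ (act_eq_zero (act_eq_zero e))) u3 u4).2
  have e2 : η' = η := by linear_combination -μ * e1 - (η' - η) * hμ
  have e3 : η = 1 := (mul_self_eq_one_iff.1 hη).resolve_right fun e => by
    rw [e2, e, neg_one_mul, neg_one_mul, o2] at u1
    exact h.noswap h2 hd hc c1 c2 u1
  refine ⟨e3, e2.trans e3, ?_⟩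
  rcases mul_self_eq_one_iff.1 (show μ * ν * (μ * ν) = 1 by linear_combination (ν : K) * ν * hμ + hν) with e | e
  · linear_combination (ν : K) * e - μ * hν
  · rw [e, show μ * ((1 : ℤ) : K) = -ν by push_cast; linear_combination (ν : K) * e - μ * hν,
      show (-1 : K) = -((1 : ℤ) : K) by simp, o2] at u2
    exact (h.noswap h2 hd hj j1 j2 u2).elim

omit h2 in
theorem fix_of_eig {y c : G8 K} (hy : y ^ 3 = 1) (hc : c * y * c⁻¹ = y⁻¹) {v : L8 K} (hv : v ≠ 0) {l k : K}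
    (h1 : act y v = l • v) (h3 : act c v = k • v) : act y v = v := by
  have h4 : act y (act c (act y v)) = act c v := by
    rw [← act_mul, ← act_mul, show y * c * y = y * (c * y * c⁻¹) * c by group, hc, mul_inv_cancel, one_mul]
  have h5 : act y (act y (act y v)) = v := by rw [← act_mul, ← act_mul, ← pow_three', hy, act_one]
  have hk : k ≠ 0 := fun e => hv (act_eq_zero (by rw [h3, e, zero_smul]))
  simp only [h1, h3, act_smul, smul_smul] at h4 h5
  have h6 := smul_left_injective K hv h4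
  have h7 := smul_left_injective K hv (h5.trans (one_smul K v).symm)
  have h8 : l * l = 1 := mul_left_cancel₀ hk (by linear_combination h6)
  rw [h1, show l = 1 by linear_combination h7 - l * h8, one_smul]

/-- the elements of order 3 inverted by `c` which fix the root vectors of the frame -/
structure Gd (a b a' b' d : Ix) (c g : G8 K) : Prop where
  cube : g ^ 3 = 1
  inv : c * g * c⁻¹ = g⁻¹
  fix : ∀ x ∈ [a, b, a', b', d], act g E[x] = E[x] ∧ act g E[op x] = E[op x]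

omit h2 in
theorem Gd.neg {c g : G8 K} (h : Gd a b a' b' d c g) : Gd a b a' b' d c g⁻¹ :=
  ⟨by rw [inv_pow, h.cube, inv_one], by rw [← conj_inv, h.inv], fun x hx => ⟨inv_fix (h.fix x hx).1, inv_fix (h.fix x hx).2⟩⟩

omit h2 in
theorem Gd.fixH {c g : G8 K} (h : Gd a b a' b' d c g) {x : Ix} (hx : x ∈ [a, b, a', b', d]) : act g H[x] = H[x] :=
  fix_H (h.fix x hx).1 (h.fix x hx).2

omit h2 in
theorem Gd.om {c g : G8 K} (h : Gd a b a' b' d c g) {ε ε' : K} {u : L8 K} (hu : u ∈ Om a b a' b' ε ε') :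
    act g u ∈ Om a b a' b' ε ε' :=
  Om_fix (h.fixH (by simp)) (h.fixH (by simp)) (h.fixH (by simp)) (h.fixH (by simp)) hu

omit h2 in
theorem cube_id {g : G8 K} (h : g ^ 3 = 1) (u : L8 K) : act g (act g u - act g⁻¹ u) - act g⁻¹ (act g u - act g⁻¹ u) +
    (act g u - act g⁻¹ u) + (2 : K) • u = (2 : K) • act g u := by
  have h1 : g * g = g⁻¹ := eq_inv_of_mul_eq_one_left (by rw [← pow_three', h])
  have h3 : g⁻¹ * g⁻¹ = g := by rw [← mul_inv_rev, h1, inv_inv]
  rw [act_sub, act_sub, act_inv, act_inv', ← act_mul, ← act_mul, h1, h3]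
  module

theorem Phi.yy (h : Phi a b a' b' d ν r s) (hab : ip a b = -1) (hab' : ip a' b' = -1) {c j y : G8 K} (hc : c * c = 1)
    (hj : j * j = 1) (hcj : j * c = c * j) (c1 : act c H[d] = H[d]) {t t' m : K} (hm : m * m = 1)
    (h1 : act c H[a] = t • H[a]) (h3 : act c H[b] = H[a] + H[b]) (h4 : act c H[a'] = t' • H[a'])
    (h5 : act c H[b'] = H[a'] + H[b']) (h6 : act j H[a] = m • H[a']) (h7 : act j H[b] = (ν : K) • H[b'])
    (hy : Gd a b a' b' d c y) (hy' : Gd a b a' b' d c (j * y * j)) (hyy : y * (j * y * j) = j * y * j * y) :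
    j * y * j = y ∨ j * y * j = y⁻¹ := by
  obtain ⟨o1, o2⟩ := om_eq h2 hab hab' (Or.inl rfl) h.nu h.r_iff
  obtain ⟨o3, o4⟩ := om_eq h2 hab hab' (Or.inl rfl) (ε' := -ν) (by have := h.nu; omega) h.s_iff
  have hν : (ν : K) * ν = 1 := by rcases h.nu with e | e <;> simp [e]
  have hi : j⁻¹ = j := inv_eq_of_mul_eq_one_left hj
  have cO : ∀ {ε ε' : K} {u : L8 K}, u ∈ Om a b a' b' ε ε' → act c u ∈ Om a b a' b' ε ε' := fun {ε ε' u} hu => by
    have := Om_c hc h1 (η := 1) (η' := 1) (by rw [h3, one_smul]) h4 (by rw [h5, one_smul]) hu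
    rwa [one_mul, one_mul] at this
  have triv : ∀ {g : G8 K}, Gd a b a' b' d c g → ∀ k, act g E[r k] = E[r k] ∧ act g E[op (r k)] = E[op (r k)] := by
    intro g hg k
    have f := inv_fix (hg.fixH (x := d) (by simp))
    constructor
    · obtain ⟨l, hl⟩ := h.diag h2 (o1 ▸ hg.om (o1 ▸ E_mem r k)) k (by rw [br_act, f, br_HE, act_smul])
      obtain ⟨l', hl'⟩ := h.diag h2 (o1 ▸ cO (o1 ▸ E_mem r k)) k (by rw [br_act' hc, c1, br_HE, act_smul])
      exact fix_of_eig hg.cube hg.inv (ee_ne_zero _) hl hl'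
    · obtain ⟨l, hl⟩ := h.diag' h2 (o2 ▸ hg.om (o2 ▸ E_mem (fun k => op (r k)) k)) k (by rw [br_act, f, br_HE, act_smul])
      obtain ⟨l', hl'⟩ := h.diag' h2 (o2 ▸ cO (o2 ▸ E_mem (fun k => op (r k)) k)) k
        (by rw [br_act' hc, c1, br_HE, act_smul])
      exact fix_of_eig hg.cube hg.inv (ee_ne_zero _) hl hl'
  have gU : ∀ {g : G8 K}, Gd a b a' b' d c g → ∀ u ∈ Sp K s, act g u ∈ Sp K s := fun hg u hu => o3 ▸ hg.om (o3 ▸ hu)
  have gU' : ∀ {g : G8 K}, Gd a b a' b' d c g → ∀ u ∈ Sp K fun k => op (s k), act g u ∈ Sp K fun k => op (s k) :=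
    fun hg u hu => o4 ▸ hg.om (o4 ▸ hu)
  have fin : ∀ {g g' : G8 K}, Gd a b a' b' d c g → Gd a b a' b' d c g' →
      (∀ u ∈ Sp K s, act g' u - act g'⁻¹ u = act g u - act g⁻¹ u) → g' = g := by
    intro g g' hg hg' e
    have e1 : ∀ u ∈ Sp K s, act g' u = act g u := fun u hu => half h2 (by
      rw [← cube_id hg.cube, ← cube_id hg'.cube, e u hu, e _ (Submodule.sub_mem _ (gU hg u hu) (gU hg.neg u hu))])
    have e2 : ∀ u ∈ Sp K fun k => op (s k), act g' u = act g u := fun u hu =>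
      sub_eq_zero.1 (Sp_nd (Submodule.sub_mem _ (gU' hg' u hu) (gU' hg u hu)) fun v hv => by
        rw [map_sub, LinearMap.sub_apply, kf_act', kf_act', sub_eq_zero]
        congr 1
        rw [← act_inv g' (act g⁻¹ v), e1 _ (gU hg.neg v hv), act_inv'])
    have e3 : ∀ {v : L8 K}, v ∈ LinearMap.eqLocus (LK K g') (LK K g) ↔ act g' v = act g v := Iff.rfl
    refine ext_act fun v => e3.1 (top_of_ee (fun x hx y hy => e3.2 (by rw [act_br, act_br, e3.1 hx, e3.1 hy]))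
      (fun x => e3.2 (h.gen (fun x => act g' E[x] = act g E[x]) (fun x y z e hx hy => ?_) (fun x hx => ?_) x)) v)
    · refine smul_right_injective _ (adA_ne (K := K) e) ?_
      show _ • _ = _ • _
      rw [← act_smul, ← act_smul, ← br_ee_smul e, act_br, act_br, hx, hy]
    · have e4 : ∀ x ∈ [a, b, a', b', d], act g' E[x] = act g E[x] ∧ act g' E[op x] = act g E[op x] := fun x hx => by
        rw [(hg.fix x hx).1, (hg.fix x hx).2]
        exact hg'.fix x hx
      rcases hx with rfl | rfl | rfl | rfl | ⟨k, rfl⟩ | ⟨k, rfl⟩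
      · exact e4 _ (by simp)
      · exact e4 _ (by simp)
      · exact e4 _ (by simp)
      · exact e4 _ (by simp)
      · show act g' _ = act g _ ∧ act g' _ = act g _
        rw [(triv hg k).1, (triv hg k).2]
        exact triv hg' k
      · exact ⟨e1 _ (E_mem s k), e2 _ (E_mem (fun k => op (s k)) k)⟩
  have hB : ∀ u v, ((kf K) ∘ₗ (LK K j)) u v = kf K (act j u) v := fun _ _ => rfl
  have hM : ∀ (g : G8 K) u, (LK K g - LK K g⁻¹) u = act g u - act g⁻¹ u := fun _ _ => rfl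
  have cM : ∀ {g : G8 K}, Gd a b a' b' d c g → ∀ u, act c (act g u - act g⁻¹ u) = -(act g (act c u) - act g⁻¹ (act c u)) :=
    fun {g} hg u => by
      rw [neg_sub, act_sub, ← act_mul, ← act_mul, ← act_mul, ← act_mul, mul_inv_eq_iff_eq_mul.1 hg.inv,
        mul_inv_eq_iff_eq_mul.1 hg.neg.inv, inv_inv]
  have L : La (Sp K s) ((kf K) ∘ₗ (LK K j)) (LK K c) (LK K y - LK K y⁻¹) (LK K (j * y * j) - LK K (j * y * j)⁻¹) := by
    refine ⟨fun u _ v _ => by rw [hB, hB, kf_act', hi, kf_comm], fun u hu e => act_eq_zero (g := j) (Sp_nd ?_ e),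
      fun u hu => o3 ▸ cO (o3 ▸ hu), fun u hu => Submodule.sub_mem _ (gU hy u hu) (gU hy.neg u hu),
      fun u hu => Submodule.sub_mem _ (gU hy' u hu) (gU hy'.neg u hu), fun u _ => act_two hc u, fun u _ v _ => ?_,
      fun u _ v _ => ?_, fun u _ => cM hy u, fun u _ => cM hy' u, fun u _ => ?_⟩
    · have h8 := Om_i hj hm hν h6 h7 (o3 ▸ hu)
      rwa [show (ν : K) * ((-ν : ℤ) : K) = -((1 : ℤ) : K) by push_cast; linear_combination -hν,
        show (ν : K) * ((1 : ℤ) : K) = -((-ν : ℤ) : K) by simp, o4] at h8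
    · rw [hB, hB, LK_apply, LK_apply, ← act_mul, hcj, act_mul, kf_act]
    · rw [hB, hB, hM, hM, act_sub, ← act_mul, ← act_mul, mul_inv_rev, mul_inv_rev, hi, ← mul_assoc, ← mul_assoc, hj,
        ← mul_assoc, ← mul_assoc, hj, one_mul, one_mul, act_mul, act_mul, map_sub, map_sub, LinearMap.sub_apply, kf_act' y,
        kf_act' y⁻¹, inv_inv, neg_sub]
    · have h8 : Commute y (j * y * j) := hyy
      rw [hM, hM, hM, hM, act_sub, act_sub, act_sub, act_sub]
      simp only [← act_mul, h8.eq, h8.inv_left.eq, h8.inv_right.eq, h8.inv_inv.eq]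
      abel
  rcases la3 h2 (finrank_Sp s) L with e | e
  · exact Or.inl (fin hy hy' e)
  · exact Or.inr (fin hy.neg hy' fun u hu => by rw [inv_inv, ← neg_sub (act y u), ← hM, ← hM, e u hu])

end Cfsg.Agent.E8A.Odd
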