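import Cfsg.Agent.E8A.Odd.Pt2Fr
import Cfsg.Agent.E8A.Odd.Pt3a

/-!
# Box PT2: the group `SO₃` of a four group of type `A₂` (helper41)

* `Cy` : three involutions, their long root subalgebras and elements of order 4;
* `Cy.nn`, `Cy.cube`, `Cy.inv`, `Cy.ell` : the rotation `n₁ n₂` of order 3.
-/

set_option autoImplicit false
set_option maxRecDepth 100000
set_option linter.unusedSectionVars false

namespace Cfsg.Agent.E8A.Odd

open Cfsg Cfsg.Lie Module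
open Cfsg.Agent.E8A.Inf (kf kf_comm kf_act kf_act' kf_nd finrank_perp)
open Cfsg.Agent.E8A.TwoH

universe u

variable {K : Type u} [Field K]

theorem Nn.fix {z g : G8 K} {A v : L8 K} (h : Nn z A g) (hv : act z v = v) (h0 : br A v = 0) : act g v = v := by
  rw [h.plus v hv, h0, br_zero_right, smul_zero, add_zero]

theorem Rz.nn_comm (h2 : (2 : K) ≠ 0) {z g y : G8 K} {e f A : L8 K} (h : Rz z e f) (H : Nn z A g) (hy : y * z = z * y)
    (hA : act y A = A) : y * g = g * y := by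
  have h1 := H.conj hy
  rw [hA] at h1
  rw [← mul_inv_eq_iff_eq_mul, h.nn_unique h2 h1 H]

theorem Sz_neg {e f v : L8 K} (hv : v ∈ Sz (-e) (-f)) : v ∈ Sz e f := by
  obtain ⟨a, b, c, rfl⟩ := mem_Sz.1 hv
  exact mem_Sz.2 ⟨-a, -b, c, by rw [br_neg_left, br_neg_right, neg_neg, smul_neg, smul_neg, neg_smul, neg_smul]⟩

theorem split_le (h2 : (2 : K) ≠ 0) {a : G8 K} (ha : ∀ v, act a (act a v) = v) {U Q : Submodule K (L8 K)}
    (hU : ∀ v ∈ U, act a v ∈ U) (h1 : ∀ v ∈ U, act a v = v → v ∈ Q) (h3 : ∀ v ∈ U, act a v = -v → v ∈ Q) : U ≤ Q := by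
  intro v hv
  have h4 := Q.smul_mem (2⁻¹ : K) (Q.add_mem (h1 _ (U.add_mem hv (hU v hv)) (by rw [act_add, ha, add_comm]))
    (h3 _ (U.sub_mem hv (hU v hv)) (by rw [act_sub, ha, neg_sub])))
  rwa [add_add_sub_cancel, ← two_smul K, smul_smul, inv_mul_cancel₀ h2, one_smul] at h4

/-- an eigenspace -/
noncomputable def Eg (a : G8 K) (c : K) : Submodule K (L8 K) := Module.End.eigenspace (LK K a) c

theorem mem_Eg {a : G8 K} {c : K} {v : L8 K} : v ∈ Eg a c ↔ act a v = c • v := Module.End.mem_eigenspace_iff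

/-- the data -/
structure Cy (a1 a2 a3 n1 n2 n3 : G8 K) (e1 f1 e2 f2 e3 f3 : L8 K) : Prop where
  r1 : Rz a1 e1 f1
  r2 : Rz a2 e2 f2
  r3 : Rz a3 e3 f3
  m : a1 * a2 = a3
  g1 : Nn a1 (e1 - f1) n1
  g2 : Nn a2 (e2 - f2) n2
  g3 : Nn a3 (e3 - f3) n3
  s1 : act a2 e1 = -e1 ∧ act a2 f1 = -f1
  s2 : act a3 e2 = -e2 ∧ act a3 f2 = -f2
  s3 : act a1 e3 = -e3 ∧ act a1 f3 = -f3
  b1 : br (e1 - f1) (e2 - f2) = e3 - f3
  b2 : br (e2 - f2) (e3 - f3) = e1 - f1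
  b3 : br (e3 - f3) (e1 - f1) = e2 - f2

namespace Cy

variable {a1 a2 a3 n1 n2 n3 : G8 K} {e1 f1 e2 f2 e3 f3 : L8 K} (h : Cy a1 a2 a3 n1 n2 n3 e1 f1 e2 f2 e3 f3)
include h

theorem m' : a2 * a1 = a3 := by rw [← h.r3.inv, ← h.m, mul_inv_rev, h.r1.inv, h.r2.inv]

theorem rot : Cy a2 a3 a1 n2 n3 n1 e2 f2 e3 f3 e1 f1 :=
  ⟨h.r2, h.r3, h.r1, by rw [← h.m', ← mul_assoc, h.r2.one, one_mul], h.g2, h.g3, h.g1, h.s2, h.s3, h.s1, h.b2, h.b3, h.b1⟩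

theorem t1 : act a3 e1 = -e1 ∧ act a3 f1 = -f1 := by
  rw [← h.m', act_mul, act_mul, h.r1.fix_e, h.r1.fix_f]
  exact h.s1

theorem p11 : act a1 (e1 - f1) = e1 - f1 := by rw [act_sub, h.r1.fix_e, h.r1.fix_f]

theorem p21 : act a2 (e1 - f1) = -(e1 - f1) := by rw [act_sub, h.s1.1, h.s1.2, neg_sub_neg, neg_sub]

theorem p31 : act a3 (e1 - f1) = -(e1 - f1) := by rw [act_sub, h.t1.1, h.t1.2, neg_sub_neg, neg_sub]

theorem n11 : act n1 (e1 - f1) = e1 - f1 := h.g1.fix h.p11 (br_self _)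

theorem n12 : act n1 (e2 - f2) = e3 - f3 := by rw [h.g1.minus _ h.rot.p31, h.b1]

variable (h2 : (2 : K) ≠ 0)
include h2

theorem na : n1 * a2 = a3 * n1 := by
  have h1 := h.g1.conj (y := a2) (z' := a1) (h.m'.trans h.m.symm)
  rw [h.p21] at h1
  have h3 := h.r1.nn_unique h2 h1 (h.r1.nn_neg h2 h.g1)
  have h4 := h.r1.nn_sq h2 h.g1
  rw [h.r2.inv] at h3
  calc n1 * a2 = n1 * n1 * n1⁻¹ * a2 := by group
    _ = a1 * (a2 * n1 * a2) * a2 := by rw [h4, h3]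
    _ = a1 * a2 * n1 * (a2 * a2) := by group
    _ = a3 * n1 := by rw [h.r2.one, h.m, mul_one]

theorem nn : n1 * n2 = n3 * n1 := by
  have h1 := h.g2.conj (h.na h2)
  rw [h.n12] at h1
  rw [← h.r3.nn_unique h2 h1 h.g3, inv_mul_cancel_right]

theorem nn' : n2 * n3 = n1 * n2 := h.rot.nn h2

theorem cube : (n1 * n2) ^ 3 = 1 := by
  have h1 := h.r1.nn_sq h2 h.g1
  calc (n1 * n2) ^ 3 = n1 * n2 * (n2 * n3) * (n3 * n1) := by rw [h.nn' h2, ← h.nn h2, pow_three']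
    _ = n1 * (n2 * n2 * (n3 * n3)) * n1 := by group
    _ = n1 * n1 * (n1 * n1) := by rw [h.r2.nn_sq h2 h.g2, h.r3.nn_sq h2 h.g3, h.rot.m, ← h1]; group
    _ = 1 := by rw [h1, h.r1.one]

theorem xa : n1 * n2 * a1 = a2 * (n1 * n2) := by
  have h1 := h.r2.nn_sq h2 h.g2
  rw [← h.nn' h2, mul_assoc, h.rot.rot.na h2, ← h1]
  group

theorem xA : act (n1 * n2) (e1 - f1) = e2 - f2 := by rw [← h.nn' h2, act_mul, h.rot.rot.n12, h.rot.n11]

theorem inv {c : G8 K} (h1 : c * a1 = a1 * c) (h3 : c * a2 = a3 * c) (h4 : act c (e1 - f1) = -(e1 - f1))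
    (h5 : act c (e2 - f2) = -(e3 - f3)) : c * (n1 * n2) * c⁻¹ = (n1 * n2)⁻¹ := by
  have h6 := h.g1.conj h1
  have h7 := h.g2.conj h3
  rw [h4] at h6
  rw [h5] at h7
  rw [show c * (n1 * n2) * c⁻¹ = c * n1 * c⁻¹ * (c * n2 * c⁻¹) by group, h.r1.nn_unique h2 h6 (h.r1.nn_neg h2 h.g1),
    h.r3.nn_unique h2 h7 (h.r3.nn_neg h2 h.g3), h.nn h2, mul_inv_rev]

theorem case1 {v : L8 K} (h1 : act a1 v = v) (h3 : act a2 v = -v) (h0 : br (e1 - f1) v = 0) :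
    br (e1 - f1 + (e2 - f2) + (e3 - f3)) v - act (n1 * n2) v + act (n1 * n2)⁻¹ v = 0 := by
  have h4 := h.g1.fix h1 h0
  have h5 : act n1⁻¹ v = v := by
    nth_rewrite 1 [← h4]
    rw [act_inv]
  have h6 : act a3 v = -v := by rw [← h.m', act_mul, h1, h3]
  rw [mul_inv_rev, act_mul n2⁻¹, h5, (h.r2.nn_neg h2 h.g2).minus v h3, h.nn h2, act_mul, h4, h.g3.minus v h6, br_add_left,
    br_add_left, h0, br_neg_left]
  abel

theorem ell {W : Submodule K (L8 K)} (hW : finrank K W ≤ 8) (w1 : Sz e1 f1 ≤ W) (w2 : Sz e2 f2 ≤ W) (w3 : Sz e3 f3 ≤ W) :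
    Ell (n1 * n2) (e1 - f1 + (e2 - f2) + (e3 - f3)) := by
  have hS : ∀ {a : G8 K} {e f : L8 K}, a⁻¹ = a → (act a e = e ∧ act a f = f) ∨ (act a e = -e ∧ act a f = -f) →
      ∀ v ∈ LinearMap.BilinForm.orthogonal (kf K) (Sz e f), act a v ∈ LinearMap.BilinForm.orthogonal (kf K) (Sz e f) := by
    intro a e f ha hh v hv w hw
    have h1 := act_Sz a hw
    show kf K w (act a v) = 0
    rw [kf_comm, kf_act', ha, kf_comm]
    refine hv _ ?_
    rcases hh with hh | hh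
    · rwa [hh.1, hh.2] at h1
    · rw [hh.1, hh.2] at h1
      exact Sz_neg h1
  have h0 : ∀ {a : G8 K} {e f v : L8 K}, Rz a e f → act a v = v → v ∈ LinearMap.BilinForm.orthogonal (kf K) (Sz e f) →
      br (e - f) v = 0 := fun R hv hp => R.br_perp h2 (Submodule.sub_mem _ (e_mem _ _) (f_mem _ _)) hv hp
  set U := LinearMap.BilinForm.orthogonal (kf K) (Sz e1 f1) ⊓ LinearMap.BilinForm.orthogonal (kf K) (Sz e2 f2) ⊓
    LinearMap.BilinForm.orthogonal (kf K) (Sz e3 f3) with hU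
  have u1 : ∀ v ∈ U, act a1 v ∈ U := fun v hv => ⟨⟨hS h.r1.inv (Or.inl ⟨h.r1.fix_e, h.r1.fix_f⟩) v hv.1.1,
    hS h.r1.inv (Or.inr h.rot.t1) v hv.1.2⟩, hS h.r1.inv (Or.inr h.s3) v hv.2⟩
  have u2 : ∀ c : K, ∀ v ∈ U ⊓ Eg a1 c, act a2 v ∈ U ⊓ Eg a1 c := fun c v hv => ⟨⟨⟨hS h.r2.inv (Or.inr h.s1) v hv.1.1.1,
    hS h.r2.inv (Or.inl ⟨h.r2.fix_e, h.r2.fix_f⟩) v hv.1.1.2⟩, hS h.r2.inv (Or.inr h.rot.rot.t1) v hv.1.2⟩,
    mem_Eg.2 (by rw [← act_mul, h.m, ← h.m', act_mul, mem_Eg.1 hv.2, act_smul])⟩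
  have key : U ≤ Pt3.KE (n1 * n2) (e1 - f1 + (e2 - f2) + (e3 - f3)) := by
    refine split_le h2 h.r1.act_act u1 (fun v hv hv1 => ?_) fun v hv hv1 => ?_
    · refine split_le h2 h.r2.act_act (u2 1) (fun v hv hv2 => ?_) (fun v hv hv2 => ?_)
        ⟨hv, mem_Eg.2 (by rw [hv1, one_smul])⟩
      · have h1 : act a1 v = v := by rw [mem_Eg.1 hv.2, one_smul]
        have h3 := h0 h.r1 h1 hv.1.1.1
        have h4 := h0 h.r2 hv2 hv.1.1.2
        have h5 : act (n1 * n2) v = v := by rw [act_mul, h.g2.fix hv2 h4, h.g1.fix h1 h3]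
        have h6 : act (n1 * n2)⁻¹ v = v := by
          nth_rewrite 1 [← h5]
          rw [act_inv]
        rw [Pt3.mem_KE, br_add_left, br_add_left, h3, h4, h0 h.r3 (by rw [← h.m, act_mul, hv2, h1]) hv.1.2, h5, h6]
        abel
      · have h1 : act a1 v = v := by rw [mem_Eg.1 hv.2, one_smul]
        exact Pt3.mem_KE.2 (h.case1 h2 h1 hv2 (h0 h.r1 h1 hv.1.1.1))
    · refine split_le h2 h.r2.act_act (u2 (-1)) (fun v hv hv2 => ?_) (fun v hv hv2 => ?_)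
        ⟨hv, mem_Eg.2 (by rw [hv1, neg_one_smul])⟩
      · have h1 : act a1 v = -v := by rw [mem_Eg.1 hv.2, neg_one_smul]
        have h3 := h.rot.case1 h2 hv2 (by rw [← h.m, act_mul, hv2, h1]) (h0 h.r2 hv2 hv.1.1.2)
        rw [Pt3.mem_KE, ← h.nn' h2, ← h3]
        congr 3
        abel
      · have h1 : act a1 v = -v := by rw [mem_Eg.1 hv.2, neg_one_smul]
        have h4 : act a3 v = v := by rw [← h.m, act_mul, hv2, act_neg, h1, neg_neg]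
        have h3 := h.rot.rot.case1 h2 h4 h1 (h0 h.r3 h4 hv.1.2)
        rw [Pt3.mem_KE, h.nn h2, ← h3]
        congr 3
        abel
  have h1 : LinearMap.BilinForm.orthogonal (kf K) W ≤ U := fun v hv =>
    ⟨⟨fun w hw => hv w (w1 hw), fun w hw => hv w (w2 hw)⟩, fun w hw => hv w (w3 hw)⟩
  have h3 := Submodule.finrank_mono (h1.trans key)
  have h4 := finrank_perp W
  rw [Pt3.ell_iff]
  omega

end Cy

end Cfsg.Agent.E8A.Odd
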