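import Cfsg.Agent.E8A.Odd.Sl2b

/-!
# The configuration `A₂ + A₂ + A₁` of roots of `E₈` (helper41)

* `ip` : the inner product of two roots; `dom` : dominant conjugates under a parabolic subgroup of the Weyl group;
* `Phi`, `exists_phi` : the twelve roots with the parities `0, 1, 0, 1`, generation of the root system.
-/

set_option autoImplicit false
set_option maxRecDepth 100000

namespace Cfsg.Agent.E8A.Odd

open CoxeterSystem Cfsg Cfsg.Lie Module
open Cfsg.Agent.ChevalleyStructure.CoxeterGeom Cfsg.Agent.ChevalleyStructure.CoxeterGeomTypes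
open Cfsg.Agent.Tits.Roots Cfsg.Agent.Nodes.Reps Cfsg.Agent.Nodes.RGDChev
open Cfsg.Agent.H942.E8Tab (e8T)
open Cfsg.Agent.H942.CB (W8 cs8)
open Cfsg.Agent.H288.E8L (Q8 wt act8 wt_inl wt_inr rt_vec vec_ne_zero exists_idx wt_inj)
open Cfsg.Agent.E8A.Frm (B0 fm8 finW8)
open Cfsg.Agent.E8A.Par (op vec_op)
open Cfsg.Agent.E8A.Reg5.Cls (ex)
open Cfsg.Agent.E8A.Reg5.Aut (si vec_si B0_sr)

/-- the indices of the roots -/
abbrev Ix : Type := Fin chevE8.nroots

/-- the inner product of two roots -/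
noncomputable def ip (r s : Ix) : ℤ := B0 (vec chevE8 8 r) (vec chevE8 8 s)

/-- the computable form -/
def ic (r s : Ix) : ℤ := ex (cv r) (vec chevE8 8 s)

theorem ip_eq (r s : Ix) : ip r s = ic r s := (ex_cv r _).symm

theorem ip_comm (r s : Ix) : ip r s = ip s r := B0_comm _ _

theorem ip_op (r s : Ix) : ip r (op s) = -ip r s := by rw [ip, vec_op, map_neg, ip]

theorem op_ip (r s : Ix) : ip (op r) s = -ip r s := by rw [ip_comm, ip_op, ip_comm]

/-- the action of the Weyl group on the indices -/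
noncomputable def pw (w : W8) (r : Ix) : Ix := (exists_idx ((rt_vec r).act w)).choose

theorem vec_pw (w : W8) (r : Ix) : vec chevE8 8 (pw w r) = act8 w (vec chevE8 8 r) :=
  (exists_idx ((rt_vec r).act w)).choose_spec

theorem ip_pw (w : W8) (r s : Ix) : ip (pw w r) (pw w s) = ip r s := by
  rw [ip, vec_pw, vec_pw]
  exact fm8.inv w _ _

theorem pw_mul (v w : W8) (r : Ix) : pw (v * w) r = pw v (pw w r) :=
  vec_injective (by rw [vec_pw, vec_pw, vec_pw, act8_mul])

theorem pw_one (r : Ix) : pw 1 r = r := vec_injective (by rw [vec_pw, act8_one])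

theorem pw_inv (w : W8) (r : Ix) : pw w⁻¹ (pw w r) = r := by rw [← pw_mul, inv_mul_cancel, pw_one]

theorem pw_inv' (w : W8) (r : Ix) : pw w (pw w⁻¹ r) = r := by rw [← pw_mul, mul_inv_cancel, pw_one]

theorem pw_op (w : W8) (r : Ix) : pw w (op r) = op (pw w r) :=
  vec_injective (by rw [vec_pw, vec_op, vec_op, vec_pw, act8_neg])

theorem dom (I : List (Fin 8)) (r : Ix) : ∃ w : W8, (∀ i ∈ I, 0 ≤ chevE8.cartan i (pw w r)) ∧
    ∀ y : Ix, (∀ i ∈ I, chevE8.cartan i y = 0) → pw w y = y := by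
  obtain ⟨m, hm⟩ : ∃ m, 240 - r.val = m := ⟨_, rfl⟩
  induction m using Nat.strong_induction_on generalizing r with
  | _ m ih =>
    by_cases h : ∀ i ∈ I, 0 ≤ chevE8.cartan i r
    · exact ⟨1, by rwa [pw_one], fun y _ => pw_one y⟩
    push Not at h
    obtain ⟨i, hi, h⟩ := h
    have h1 : ∀ y : Ix, vec chevE8 8 (pw (cs8.simple i) y) = vec chevE8 8 y - chevE8.cartan i y • sr i := fun y => by
      rw [vec_pw, ← pairing_vec e8T i y.2]
      exact rep_simple_eq _ _ _ _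
    have h2 : vec chevE8 8 r ≤ vec chevE8 8 (pw (cs8.simple i) r) := fun k => by
      show vec chevE8 8 r k ≤ vec chevE8 8 (pw (cs8.simple i) r) k
      rw [h1, Pi.sub_apply, Pi.smul_apply, smul_eq_mul, sr, Pi.single_apply]
      split_ifs
      · linarith
      · linarith
    have h3 : pw (cs8.simple i) r ≠ r := fun e => by
      have h4 := congrFun (h1 r) i
      rw [e, Pi.sub_apply, Pi.smul_apply, smul_eq_mul, sr, Pi.single_eq_same] at h4
      omega
    have h4 := le_of_vec_le h2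
    have h5 : (pw (cs8.simple i) r).val ≠ r.val := fun e => h3 (Fin.ext e)
    have h6 : (pw (cs8.simple i) r).val < 240 := (pw (cs8.simple i) r).2
    obtain ⟨w, hw, hw'⟩ := ih _ (by omega) (pw (cs8.simple i) r) rfl
    refine ⟨w * cs8.simple i, by rwa [pw_mul], fun y hy => ?_⟩
    rw [pw_mul, vec_injective (show vec chevE8 8 (pw (cs8.simple i) y) = vec chevE8 8 y by
      rw [h1, hy i hi, zero_smul, sub_zero]), hw' y hy]

/-- the data -/
structure Phi (a b a' b' d : Ix) (ν : ℤ) (r s : Fin 3 → Ix) : Prop where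
  nu : ν = 1 ∨ ν = -1
  r_iff : ∀ x, (ip a x = 0 ∧ ip b x = 1 ∧ ip a' x = 0 ∧ ip b' x = ν) ↔ ∃ k, x = r k
  s_iff : ∀ x, (ip a x = 0 ∧ ip b x = 1 ∧ ip a' x = 0 ∧ ip b' x = -ν) ↔ ∃ k, x = s k
  d0 : ip d (r 0) = -1
  d1 : ip d (r 1) = 1
  d2 : ip d (r 2) = 0
  inj : Function.Injective s
  gen : ∀ P : Ix → Prop, (∀ x y z : Ix, vec chevE8 8 z = vec chevE8 8 x + vec chevE8 8 y → P x → P y → P z) →
    (∀ x, (x = a ∨ x = b ∨ x = a' ∨ x = b' ∨ (∃ k, x = r k) ∨ ∃ k, x = s k) → P x ∧ P (op x)) → ∀ x, P x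

theorem Phi.pull {a b a' b' d : Ix} {ν : ℤ} {r s : Fin 3 → Ix} (w : W8)
    (h : Phi (pw w a) (pw w b) (pw w a') (pw w b') (pw w d) ν r s) :
    Phi a b a' b' d ν (fun k => pw w⁻¹ (r k)) fun k => pw w⁻¹ (s k) := by
  have e1 : ∀ x y : Ix, pw w x = y ↔ x = pw w⁻¹ y := fun x y =>
    ⟨fun e => by rw [← e, pw_inv], fun e => by rw [e, pw_inv']⟩
  have e2 : ∀ x y : Ix, ip x (pw w⁻¹ y) = ip (pw w x) y := fun x y => by rw [← ip_pw w, pw_inv']
  refine ⟨h.nu, fun x => ?_, fun x => ?_, by rw [e2, h.d0], by rw [e2, h.d1], by rw [e2, h.d2],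
    fun k l e => h.inj (by rw [← pw_inv' w (s k), show pw w⁻¹ (s k) = pw w⁻¹ (s l) from e, pw_inv']),
    fun P h1 h2 x => ?_⟩
  · have := h.r_iff (pw w x)
    simpa only [ip_pw, e1] using this
  · have := h.s_iff (pw w x)
    simpa only [ip_pw, e1] using this
  · rw [← pw_inv w x]
    refine h.gen (fun x => P (pw w⁻¹ x)) (fun x y z e => h1 _ _ _ (by rw [vec_pw, vec_pw, vec_pw, e, act8_add]))
      (fun x hx => ?_) _
    show P _ ∧ P _
    rw [pw_op]
    refine h2 _ ?_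
    rcases hx with rfl | rfl | rfl | rfl | ⟨k, rfl⟩ | ⟨k, rfl⟩
    · exact Or.inl (pw_inv _ _)
    · exact Or.inr (Or.inl (pw_inv _ _))
    · exact Or.inr (Or.inr (Or.inl (pw_inv _ _)))
    · exact Or.inr (Or.inr (Or.inr (Or.inl (pw_inv _ _))))
    · exact Or.inr (Or.inr (Or.inr (Or.inr (Or.inl ⟨k, rfl⟩))))
    · exact Or.inr (Or.inr (Or.inr (Or.inr (Or.inr ⟨k, rfl⟩))))

/-- an index -/
def nx (k : ℕ) : Ix := ⟨k % 240, Nat.mod_lt _ (by norm_num)⟩

theorem nx_val (x : Ix) : nx x.val = x := Fin.ext (Nat.mod_eq_of_lt x.2)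

/-- the closure along a list of sums -/
def chain : List (ℕ × ℕ × ℕ) → ℕ → ℕ
  | [], m => m
  | x :: L, m => bif m.testBit x.1 && m.testBit x.2.1 &&
      decide (vec chevE8 8 (nx x.2.2) = vec chevE8 8 (nx x.1) + vec chevE8 8 (nx x.2.1)) then
      chain L (m ||| 2 ^ x.2.2) else 0

theorem chain_ok {P : Ix → Prop}
    (h : ∀ x y z : Ix, vec chevE8 8 z = vec chevE8 8 x + vec chevE8 8 y → P x → P y → P z) :
    ∀ (L : List (ℕ × ℕ × ℕ)) (m : ℕ), (∀ k, m.testBit k = true → P (nx k)) → ∀ k, (chain L m).testBit k = true → P (nx k)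
  | [], _, hm => hm
  | x :: L, m, hm => by
    rw [chain, Bool.cond_eq_ite]
    split_ifs with h1
    · simp only [Bool.and_eq_true, decide_eq_true_eq] at h1
      refine chain_ok h L _ fun k hk => ?_
      rw [Nat.testBit_or, Bool.or_eq_true, Nat.testBit_two_pow, decide_eq_true_eq] at hk
      rcases hk with hk | rfl
      · exact hm k hk
      · exact h _ _ _ h1.2 (hm _ h1.1.1) (hm _ h1.1.2)
    · intro k hk
      simp at hk

/-- the list of sums -/
def chL : List (ℕ × ℕ × ℕ) :=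
  [(0, 120, 1), (141, 35, 45), (141, 195, 205), (141, 67, 72), (141, 197, 207), (141, 200, 210), (141, 89, 100),
   (141, 94, 106), (145, 1, 7), (145, 67, 76), (145, 89, 104), (145, 98, 133), (145, 120, 146), (150, 1, 8), (150,
   67, 77), (150, 94, 135), (150, 98, 139), (150, 120, 151), (35, 72, 13), (35, 205, 121), (35, 207, 124), (35,
   210, 128), (35, 100, 20), (35, 106, 25), (39, 133, 51), (39, 139, 61), (39, 195, 112), (39, 197, 113), (39, 98,
   29), (39, 119, 38), (42, 133, 54), (42, 139, 64), (42, 195, 116), (42, 200, 126), (42, 98, 32), (42, 119, 41),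
   (172, 1, 15), (172, 29, 83), (172, 32, 86), (172, 89, 162), (172, 94, 163), (172, 98, 167), (172, 120, 173),
   (44, 133, 55), (44, 139, 65), (44, 167, 87), (44, 197, 123), (44, 200, 127), (44, 98, 34), (44, 119, 43), (195,
   1, 26), (195, 7, 47), (195, 8, 57), (195, 13, 68), (195, 15, 79), (195, 146, 216), (195, 20, 90), (195, 151,
   221), (195, 25, 95), (195, 173, 228), (195, 72, 152), (195, 100, 174), (195, 106, 184), (195, 120, 196), (67,
   38, 9), (67, 41, 10), (67, 43, 11), (67, 119, 66), (67, 124, 69), (67, 128, 70), (67, 207, 153), (67, 210, 156),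
   (197, 1, 27), (197, 7, 49), (197, 8, 59), (197, 15, 81), (197, 20, 91), (197, 25, 96), (197, 100, 175), (197,
   106, 185), (197, 120, 198), (197, 146, 217), (197, 151, 222), (197, 173, 229), (200, 1, 30), (200, 7, 52), (200,
   8, 62), (200, 15, 84), (200, 20, 92), (200, 25, 97), (200, 100, 178), (200, 106, 188), (200, 120, 201), (200,
   146, 218), (200, 151, 223), (200, 173, 230), (204, 29, 111), (204, 32, 115), (204, 34, 118), (204, 51, 142),
   (204, 54, 143), (204, 55, 144), (204, 61, 147), (204, 64, 148), (204, 65, 149), (204, 83, 169), (204, 86, 170),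
   (204, 87, 171), (204, 98, 194), (204, 133, 214), (204, 139, 219), (204, 167, 226), (89, 38, 16), (89, 41, 17),
   (89, 43, 18), (89, 119, 88), (94, 38, 21), (94, 41, 22), (94, 43, 23), (94, 119, 93), (98, 7, 5), (98, 8, 6),
   (98, 15, 14), (98, 38, 28), (98, 41, 31), (98, 43, 33), (98, 142, 130), (98, 143, 131), (98, 144, 132), (98,
   146, 134), (98, 147, 136), (98, 148, 137), (98, 149, 138), (98, 151, 140), (98, 169, 164), (98, 170, 165), (98,
   171, 166), (98, 173, 168), (239, 9, 155), (239, 10, 158), (239, 11, 160), (239, 16, 177), (239, 17, 180), (239,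
   18, 182), (239, 21, 187), (239, 22, 190), (239, 23, 192), (239, 28, 199), (239, 31, 202), (239, 33, 203), (239,
   38, 209), (239, 41, 212), (239, 43, 213), (239, 66, 224), (239, 88, 231), (239, 93, 232), (239, 119, 238), (119,
   13, 12), (119, 20, 19), (119, 25, 24), (119, 72, 71), (119, 100, 99), (119, 106, 105), (119, 111, 110), (119,
   115, 114), (119, 118, 117), (119, 155, 154), (119, 158, 157), (119, 160, 159), (119, 177, 176), (119, 180, 179),
   (119, 182, 181), (119, 187, 186), (119, 190, 189), (119, 192, 191), (120, 47, 48), (120, 49, 50), (120, 52, 53),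
   (120, 57, 58), (120, 59, 60), (120, 62, 63), (120, 79, 80), (120, 81, 82), (120, 84, 85), (120, 121, 122), (120,
   124, 125), (120, 128, 129), (120, 205, 206), (120, 207, 208), (120, 210, 211), (120, 214, 215), (120, 219, 220),
   (120, 226, 227), (0, 122, 2), (0, 125, 3), (0, 129, 4), (0, 206, 36), (0, 208, 37), (0, 211, 40), (0, 215, 46),
   (0, 220, 56), (0, 227, 78), (7, 221, 73), (7, 222, 74), (7, 223, 75), (7, 228, 101), (7, 229, 102), (7, 230,
   103), (8, 228, 107), (8, 229, 108), (8, 230, 109), (12, 239, 161), (19, 239, 183), (24, 239, 193), (71, 239,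
   225), (99, 239, 233), (105, 239, 234), (110, 239, 235), (114, 239, 236), (117, 239, 237)]

theorem chL_ok : chain chL 883423532416761195619453364467370201660112098662220952396083408962322433 = 2 ^ 240 - 1 := by
  decide +kernel

theorem mask_ok : ∀ k < 240, Nat.testBit 883423532416761195619453364467370201660112098662220952396083408962322433 k = true →
    ∃ j ∈ [239, 119, 204, 98, 195, 197, 200, 145, 150, 172], nx k = nx j ∨ nx k = op (nx j) := by decide +kernel

theorem gen_std (P : Ix → Prop)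
    (h : ∀ x y z : Ix, vec chevE8 8 z = vec chevE8 8 x + vec chevE8 8 y → P x → P y → P z)
    (h0 : ∀ j ∈ [239, 119, 204, 98, 195, 197, 200, 145, 150, 172], P (nx j) ∧ P (op (nx j))) (x : Ix) : P x := by
  rw [← nx_val x]
  refine chain_ok h chL _ (fun k hk => ?_) _ (by rw [chL_ok, Nat.testBit_two_pow_sub_one]; exact decide_eq_true x.2)
  have h1 : k < 240 := by
    by_contra h1
    rw [Nat.testBit_eq_false_of_lt (lt_of_lt_of_le (by norm_num) (Nat.pow_le_pow_right two_pos (not_lt.1 h1)))] at hk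
    exact absurd hk (by simp)
  obtain ⟨j, hj, e | e⟩ := mask_ok k h1 hk
  · rw [e]
    exact (h0 j hj).1
  · rw [e]
    exact (h0 j hj).2

theorem om_std : ∀ x : Ix, ((ic (nx 239) x = 0 ∧ ic (nx 119) x = 1 ∧ ic (nx 204) x = 0 ∧ ic (nx 98) x = 1) ↔
      (x = nx 195 ∨ x = nx 197 ∨ x = nx 200)) ∧
    ((ic (nx 239) x = 0 ∧ ic (nx 119) x = 1 ∧ ic (nx 204) x = 0 ∧ ic (nx 98) x = -1) ↔
      (x = nx 145 ∨ x = nx 150 ∨ x = nx 172)) := by decide +kernel

theorem ex3 {x : Ix} {r : Fin 3 → Ix} : (∃ k, x = r k) ↔ x = r 0 ∨ x = r 1 ∨ x = r 2 := by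
  simp [Fin.exists_fin_succ]

theorem phi1 : Phi (nx 239) (nx 119) (nx 204) (nx 98) (nx 127) 1 ![nx 195, nx 200, nx 197] ![nx 145, nx 150, nx 172] := by
  refine ⟨Or.inl rfl, fun x => ?_, fun x => ?_, by rw [ip_eq]; decide +kernel, by rw [ip_eq]; decide +kernel,
    by rw [ip_eq]; decide +kernel, by decide +kernel, fun P h h0 => gen_std P h fun j hj => h0 _ ?_⟩
  · simp only [ip_eq, (om_std x).1, ex3, Matrix.cons_val]
    tauto
  · simp only [ip_eq, (om_std x).2, ex3, Matrix.cons_val]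
  · simp only [ex3, Matrix.cons_val]
    simp only [List.mem_cons, List.not_mem_nil, or_false] at hj
    rcases hj with rfl | rfl | rfl | rfl | rfl | rfl | rfl | rfl | rfl | rfl <;> simp only [true_or, or_true]

theorem phi2 : Phi (nx 239) (nx 119) (nx 204) (nx 98) (nx 163) (-1) ![nx 145, nx 172, nx 150]
    ![nx 195, nx 197, nx 200] := by
  refine ⟨Or.inr rfl, fun x => ?_, fun x => ?_, by rw [ip_eq]; decide +kernel, by rw [ip_eq]; decide +kernel,
    by rw [ip_eq]; decide +kernel, by decide +kernel, fun P h h0 => gen_std P h fun j hj => h0 _ ?_⟩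
  · simp only [ip_eq, (om_std x).2, ex3, Matrix.cons_val]
    tauto
  · simp only [ip_eq, neg_neg, (om_std x).1, ex3, Matrix.cons_val]
  · simp only [ex3, Matrix.cons_val]
    simp only [List.mem_cons, List.not_mem_nil, or_false] at hj
    rcases hj with rfl | rfl | rfl | rfl | rfl | rfl | rfl | rfl | rfl | rfl <;> simp only [true_or, or_true]

theorem dom1 : ∀ x : Ix, (∀ i ∈ ([0, 1, 2, 3, 4, 5, 6, 7] : List (Fin 8)), 0 ≤ chevE8.cartan i x) → x = nx 239 := by
  decide +kernel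

theorem dom2 : ∀ x : Ix, (∀ i ∈ ([0, 1, 2, 3, 4, 5, 6] : List (Fin 8)), 0 ≤ chevE8.cartan i x) →
    ic (nx 239) x = -1 → x = nx 119 := by decide +kernel

theorem dom3 : ∀ x : Ix, (∀ i ∈ ([0, 1, 2, 3, 4, 5] : List (Fin 8)), 0 ≤ chevE8.cartan i x) →
    ic (nx 239) x = 0 → ic (nx 119) x = 0 → x = nx 204 := by decide +kernel

theorem dom4 : ∀ x : Ix, (∀ i ∈ ([0, 2, 3, 4, 5] : List (Fin 8)), 0 ≤ chevE8.cartan i x) →
    ic (nx 239) x = 0 → ic (nx 119) x = 0 → ic (nx 204) x = -1 → x = nx 98 := by decide +kernel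

theorem dom5 : ∀ x : Ix, (∀ i ∈ ([0, 2, 4, 5] : List (Fin 8)), 0 ≤ chevE8.cartan i x) →
    ic (nx 239) x = 0 → ic (nx 119) x = 0 → ic (nx 204) x = 0 → ic (nx 98) x = 0 → x = nx 127 ∨ x = nx 163 := by
  decide +kernel

theorem exists_phi {a b a' b' d : Ix} (h1 : ip a b = -1) (h2 : ip a a' = 0) (h3 : ip b a' = 0) (h4 : ip a b' = 0)
    (h5 : ip b b' = 0) (h6 : ip a' b' = -1) (h7 : ip a d = 0) (h8 : ip b d = 0) (h9 : ip a' d = 0) (h10 : ip b' d = 0) :
    ∃ ν r s, Phi a b a' b' d ν r s := by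
  have k5 : ∀ d, ip (nx 239) d = 0 → ip (nx 119) d = 0 → ip (nx 204) d = 0 → ip (nx 98) d = 0 →
      ∃ ν r s, Phi (nx 239) (nx 119) (nx 204) (nx 98) d ν r s := by
    intro d h7 h8 h9 h10
    obtain ⟨w, hw, hf⟩ := dom [0, 2, 4, 5] d
    have f1 := hf (nx 239) (by decide +kernel)
    have f2 := hf (nx 119) (by decide +kernel)
    have f3 := hf (nx 204) (by decide +kernel)
    have f4 := hf (nx 98) (by decide +kernel)
    rw [← ip_pw w, f1, ip_eq] at h7
    rw [← ip_pw w, f2, ip_eq] at h8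
    rw [← ip_pw w, f3, ip_eq] at h9
    rw [← ip_pw w, f4, ip_eq] at h10
    rcases dom5 _ hw h7 h8 h9 h10 with e | e
    · exact ⟨_, _, _, Phi.pull w (by rw [f1, f2, f3, f4, e]; exact phi1)⟩
    · exact ⟨_, _, _, Phi.pull w (by rw [f1, f2, f3, f4, e]; exact phi2)⟩
  have k4 : ∀ b' d, ip (nx 239) b' = 0 → ip (nx 119) b' = 0 → ip (nx 204) b' = -1 → ip (nx 239) d = 0 →
      ip (nx 119) d = 0 → ip (nx 204) d = 0 → ip b' d = 0 → ∃ ν r s, Phi (nx 239) (nx 119) (nx 204) b' d ν r s := by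
    intro b' d h4 h5 h6 h7 h8 h9 h10
    obtain ⟨w, hw, hf⟩ := dom [0, 2, 3, 4, 5] b'
    have f1 := hf (nx 239) (by decide +kernel)
    have f2 := hf (nx 119) (by decide +kernel)
    have f3 := hf (nx 204) (by decide +kernel)
    rw [← ip_pw w, f1] at h4 h7
    rw [← ip_pw w, f2] at h5 h8
    rw [← ip_pw w, f3] at h6 h9
    have e := dom4 _ hw (ip_eq _ _ ▸ h4) (ip_eq _ _ ▸ h5) (ip_eq _ _ ▸ h6)
    rw [← ip_pw w, e] at h10
    obtain ⟨ν, r, s, h⟩ := k5 _ h7 h8 h9 h10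
    exact ⟨_, _, _, Phi.pull w (by rw [f1, f2, f3, e]; exact h)⟩
  have k3 : ∀ a' b' d, ip (nx 239) a' = 0 → ip (nx 119) a' = 0 → ip (nx 239) b' = 0 → ip (nx 119) b' = 0 →
      ip a' b' = -1 → ip (nx 239) d = 0 → ip (nx 119) d = 0 → ip a' d = 0 → ip b' d = 0 →
      ∃ ν r s, Phi (nx 239) (nx 119) a' b' d ν r s := by
    intro a' b' d h2 h3 h4 h5 h6 h7 h8 h9 h10
    obtain ⟨w, hw, hf⟩ := dom [0, 1, 2, 3, 4, 5] a'
    have f1 := hf (nx 239) (by decide +kernel)
    have f2 := hf (nx 119) (by decide +kernel)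
    rw [← ip_pw w, f1] at h2 h4 h7
    rw [← ip_pw w, f2] at h3 h5 h8
    have e := dom3 _ hw (ip_eq _ _ ▸ h2) (ip_eq _ _ ▸ h3)
    rw [← ip_pw w, e] at h6 h9
    rw [← ip_pw w] at h10
    obtain ⟨ν, r, s, h⟩ := k4 _ _ h4 h5 h6 h7 h8 h9 h10
    exact ⟨_, _, _, Phi.pull w (by rw [f1, f2, e]; exact h)⟩
  have k2 : ∀ b a' b' d, ip (nx 239) b = -1 → ip (nx 239) a' = 0 → ip b a' = 0 → ip (nx 239) b' = 0 → ip b b' = 0 →
      ip a' b' = -1 → ip (nx 239) d = 0 → ip b d = 0 → ip a' d = 0 → ip b' d = 0 →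
      ∃ ν r s, Phi (nx 239) b a' b' d ν r s := by
    intro b a' b' d h1 h2 h3 h4 h5 h6 h7 h8 h9 h10
    obtain ⟨w, hw, hf⟩ := dom [0, 1, 2, 3, 4, 5, 6] b
    have f1 := hf (nx 239) (by decide +kernel)
    rw [← ip_pw w, f1] at h1 h2 h4 h7
    have e := dom2 _ hw (ip_eq _ _ ▸ h1)
    rw [← ip_pw w, e] at h3 h5 h8
    rw [← ip_pw w] at h6 h9 h10
    obtain ⟨ν, r, s, h⟩ := k3 _ _ _ h2 h3 h4 h5 h6 h7 h8 h9 h10
    exact ⟨_, _, _, Phi.pull w (by rw [f1, e]; exact h)⟩
  obtain ⟨w, hw, -⟩ := dom [0, 1, 2, 3, 4, 5, 6, 7] a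
  have e := dom1 _ hw
  rw [← ip_pw w, e] at h1 h2 h4 h7
  rw [← ip_pw w] at h3 h5 h6 h8 h9 h10
  obtain ⟨ν, r, s, h⟩ := k2 _ _ _ _ h1 h2 h3 h4 h5 h6 h7 h8 h9 h10
  exact ⟨_, _, _, Phi.pull w (by rw [e]; exact h)⟩

end Cfsg.Agent.E8A.Odd
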